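import Cfsg.Agent.Lib.EPB.Defs
import Cfsg.Agent.Lib.EPO.B
import Cfsg.Agent.Lib.EPD.C
import Cfsg.Agent.S2202
import Cfsg.Agent.Lib.SL2.Torus
import Cfsg.Agent.Lib.SL2.PSL

/-! The Zassenhaus case with abelian Sylow 2-subgroup. -/

set_option autoImplicit false
set_option linter.unusedSectionVars false

namespace Cfsg.Agent.EPB

open Subgroup EPO
open scoped MatrixGroups

universe u

variable {G : Type u} [Group G]

theorem card_cent_equiv {H : Type*} [Group H] (e : G ≃* H) (t : G) :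
    Nat.card (centralizer ({e t} : Set H)) = Nat.card (centralizer ({t} : Set G)) := by
  refine (Nat.card_congr (Equiv.subtypeEquiv e.toEquiv fun x => ?_)).symm
  simp only [mem_centralizer_singleton_iff, MulEquiv.toEquiv_eq_coe, EquivLike.coe_coe, ← map_mul,
    e.injective.eq_iff]

theorem exists_sylow_mem [Finite G] {x : G} {j : ℕ} (hx : x ^ 2 ^ j = 1) :
    ∃ P : Sylow 2 G, x ∈ (P : Subgroup G) := by
  obtain ⟨Q, hQ⟩ := (isPGroup_of_pow (U := zpowers x) (p := 2) (by
    rintro _ ⟨i, rfl⟩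
    exact ⟨j, by
      change (x ^ i) ^ 2 ^ j = 1
      rw [← zpow_natCast, ← zpow_mul, mul_comm, zpow_mul, zpow_natCast, hx, one_zpow]⟩)).exists_le_sylow
  exact ⟨Q, hQ (mem_zpowers x)⟩

theorem aic [Finite G] (h : EP G)
    (hc : ∀ t : G, orderOf t = 2 → IsMulCommutative (centralizer ({t} : Set G))) {a b s k : G}
    (ha : a * a = 1) (hb : b * b = 1) (ha1 : a ≠ 1) (hb1 : b ≠ 1) (hab : a ≠ b) (hcm : a * b = b * a)
    (hs : s * s = 1) (hk : s * k * s = k⁻¹) (hk2 : ∀ j : ℕ, k ^ 2 ^ j ≠ 1) :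
    ∃ (F : Type) (_ : Field F) (_ : Fintype F), CharP F 2 ∧ Nonempty (G ≃* SL(2, F)) ∧
      IsPrimePow (Nat.card F + 1) ∧ Nat.card (centralizer ({a} : Set G)) = Nat.card F := by
  classical
  have hoa : orderOf a = 2 := orderOf_eq_prime (by rw [pow_two, ha]) ha1
  rcases S2202.result (even_iff_two_dvd.2 (hoa ▸ orderOf_dvd_natCard a)) hc with
    h1 | h1 | ⟨F, _, _, A, _, _, h1, h2, ⟨e⟩⟩
  · exfalso
    obtain ⟨P, hP⟩ := (isPGroup_of_pow (U := centralizer {a}) (p := 2) fun y hy =>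
      h.comm Nat.prime_two (mem_centralizer_singleton_iff.1 hy).symm ha1 (k := 1)
        (by rw [pow_one, pow_two, ha])).exists_le_sylow
    have := h1 P
    have := Fintype.ofFinite P
    have h3 := IsCyclic.card_pow_eq_one_le (α := P) (n := 2) (by norm_num)
    have a' : a ∈ (P : Subgroup G) := hP (mem_centralizer_singleton_iff.2 rfl)
    have b' : b ∈ (P : Subgroup G) := hP (mem_centralizer_singleton_iff.2 hcm.symm)
    have h4 := Finset.card_le_card (show ({1, ⟨a, a'⟩, ⟨b, b'⟩} : Finset P) ⊆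
        Finset.univ.filter fun x => x ^ 2 = 1 from fun x hx => by
      simp only [Finset.mem_insert, Finset.mem_singleton] at hx
      rcases hx with rfl | rfl | rfl
      · simp
      · exact Finset.mem_filter.2 ⟨Finset.mem_univ _, Subtype.ext (by simpa [pow_two] using ha)⟩
      · exact Finset.mem_filter.2 ⟨Finset.mem_univ _, Subtype.ext (by simpa [pow_two] using hb)⟩)
    rw [Finset.card_eq_three.2 ⟨_, _, _, fun e => ha1 (congrArg Subtype.val e).symm,
      fun e => hb1 (congrArg Subtype.val e).symm, fun e => hab (congrArg Subtype.val e), rfl⟩] at h4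
    omega
  · exfalso
    obtain ⟨P, hP⟩ := exists_sylow_mem (x := s) (j := 1) (by rw [pow_one, pow_two, hs])
    obtain ⟨Q, hQ⟩ := exists_sylow_mem (x := k * s) (j := 1) (by
      rw [pow_one, pow_two, show k * s * (k * s) = k * (s * k * s) by group, hk, mul_inv_cancel])
    have := h1 P
    have h3 := (mul_mem_cancel_right hP).1 (Q.isPGroup'.le_sylow_of_normal (N := Q) (H := P) hQ)
    obtain ⟨j, hj⟩ := pow_of_mem P.isPGroup' h3
    exact hk2 j hj
  · have hA : ∀ x : A, x = 1 := fun x => by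
      by_contra hx
      have h3 : e.symm (1, x) ≠ 1 := fun e1 => hx (by
        have := congrArg (fun y => (e y).2) e1
        simpa using this)
      have h4 : a * e.symm (1, x) = e.symm (1, x) * a := e.injective (by
        simp only [map_mul, MulEquiv.apply_symm_apply]
        exact Prod.ext (by simp) (mul_comm _ _))
      obtain ⟨j, hj⟩ := h.comm Nat.prime_two h4 ha1 (k := 1) (by rw [pow_one, pow_two, ha])
      have h5 : x ^ 2 ^ j = 1 := by
        have := congrArg (fun y => (e y).2) hj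
        simpa using this
      exact hx (R3.eq_one_of_pow_of_pow (Nat.Coprime.pow_left j (Nat.coprime_two_left.2 h2)) h5
        pow_card_eq_one')
    have : Unique A := ⟨⟨1⟩, hA⟩
    let f : G ≃* SL(2, F) := e.trans MulEquiv.prodUnique
    have h2F : (2 : F) = 0 := CharP.cast_eq_zero F 2
    have hE : EP SL(2, F) := h.of_surj f.toMonoidHom f.surjective
    refine ⟨F, inferInstance, inferInstance, h1, ⟨f⟩, ?_, ?_⟩
    · obtain ⟨g, hg⟩ := SL2.exists_SL_noRoot (F := F)
      have := Fintype.ofFinite SL(2, F)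
      rw [← SL2.card_cent_SL_noRoot hg]
      refine EPD.primePow_Cz hE fun e1 => ?_
      have := hg 1
      rw [e1] at this
      exact this (by simp [Matrix.trace_fin_two]; norm_num)
    · rw [← card_cent_equiv f]
      have h3 : f a * f a = 1 := by rw [← map_mul, ha, map_one]
      have h4 : ¬ SL2.IsScal (f a).1 := fun hsc => by
        refine ha1 (f.injective ((Subtype.ext (SL2.isScal_eq_one_of_trace hsc ?_ (f a).2)).trans
          (map_one f).symm))
        rw [Matrix.trace_fin_two, ← hsc.2.2, ← two_mul, h2F, zero_mul]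
      refine SL2.card_cent_SL_double_even h2F h4 ?_
      rw [SL2.SL_trace_eq_zero_of_isScal_mul_self h4 (by rw [h3]; exact SL2.isScal_one),
        show (4 : F) = 2 * 2 by norm_num, h2F]
      simp

namespace Zas
variable [Finite G] {T : Subgroup G} {n : ℕ} {k s : G} (Z : Zas G T n k s)
include Z

theorem exists_two : ∃ a ∈ T, ∃ b ∈ T, a * a = 1 ∧ b * b = 1 ∧ a ≠ 1 ∧ b ≠ 1 ∧ a ≠ b := by
  have h1 : 2 < Nat.card {t : T // t * t = 1} := by
    rw [Z.card_inv]
    calc 2 < 2 ^ 2 := by norm_num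
      _ ≤ _ := Nat.pow_le_pow_right (by norm_num) Z.two_le
  have := Fintype.ofFinite {t : T // t * t = 1}
  rw [Nat.card_eq_fintype_card, Fintype.two_lt_card_iff] at h1
  obtain ⟨a, b, c, h1, h2, h3⟩ := h1
  have key : ∀ x y : {t : T // t * t = 1}, x ≠ y → (x.1 : G) ≠ 1 → (y.1 : G) ≠ 1 →
      ∃ a ∈ T, ∃ b ∈ T, a * a = 1 ∧ b * b = 1 ∧ a ≠ 1 ∧ b ≠ 1 ∧ a ≠ b := fun x y h hx hy =>
    ⟨x.1, x.1.2, y.1, y.1.2, congrArg Subtype.val x.2, congrArg Subtype.val y.2, hx, hy,
      fun e => h (Subtype.ext (Subtype.ext e))⟩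
  by_cases ea : (a.1 : G) = 1
  · exact key b c h3 (fun e => h1 (Subtype.ext (Subtype.ext (ea.trans e.symm))))
      fun e => h2 (Subtype.ext (Subtype.ext (ea.trans e.symm)))
  by_cases eb : (b.1 : G) = 1
  · exact key a c h2 ea fun e => h3 (Subtype.ext (Subtype.ext (eb.trans e.symm)))
  exact key a b h1 ea eb

theorem odd_q : Odd (2 ^ n - 1) :=
  Nat.Even.sub_odd Nat.one_le_two_pow
    (even_two.pow_of_ne_zero (by have := Z.two_le; omega)) odd_one

theorem k_pow (j : ℕ) : k ^ 2 ^ j ≠ 1 := fun e => by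
  have h1 := orderOf_dvd_of_pow_eq_one e
  rw [Z.ord_k] at h1
  have h2 := Nat.eq_one_of_dvd_coprimes
    (Nat.Coprime.pow_left j (Nat.coprime_two_left.2 Z.odd_q)) h1 dvd_rfl
  exact Z.prime.one_lt.ne' h2

theorem maxP : MaxP 2 ⊤ T :=
  MaxP.of_norm (K := normalizer (T : Set G)) ⟨le_normalizer, Z.pg, fun T' h1 h2 _ x hx => by
    obtain ⟨j, hj⟩ := pow_of_mem h2 hx
    exact Z.mem_of_pow x (h1 hx) j hj⟩ le_top fun _ _ h => h

end Zas

theorem conj_into [Finite G] {L T : Subgroup G} (h : MaxP 2 L T) {u : G} (hu : u ∈ L)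
    (h2 : u * u = 1) : ∃ g ∈ L, g * u * g⁻¹ ∈ T := by
  obtain ⟨R, hR, hR'⟩ := exists_maxP (p := 2) (zpowers_le.2 hu) (isPGroup_of_pow (by
    rintro _ ⟨i, rfl⟩
    exact ⟨1, by
      change (u ^ i) ^ 2 ^ 1 = 1
      rw [pow_one, ← zpow_natCast, ← zpow_mul, mul_comm, zpow_mul, zpow_natCast, pow_two, h2,
        one_zpow]⟩))
  obtain ⟨g, hg, hg'⟩ := hR.exists_conj h
  exact ⟨g, hg, (hg' u).1 (hR' (mem_zpowers u))⟩

theorem four_or_eight {n : ℕ} (hn : 2 ≤ n) (h1 : (2 ^ n - 1).Prime) (h2 : IsPrimePow (2 ^ n + 1)) :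
    n = 2 ∨ n = 3 := by
  rcases Nat.even_or_odd' n with ⟨c, rfl | rfl⟩
  · left
    have h3 : (2 ^ (2 * c)) % 3 = 1 := by rw [pow_mul]; simp [Nat.pow_mod]
    have h4 : 3 ∣ 2 ^ (2 * c) - 1 := by omega
    have h5 := (Nat.prime_dvd_prime_iff_eq Nat.prime_three h1).1 h4
    have h6 : 2 ^ (2 * c) = 2 ^ 2 := by omega
    exact Nat.pow_right_injective le_rfl h6
  · right
    have h3 : (2 ^ (2 * c)) % 3 = 1 := by rw [pow_mul]; simp [Nat.pow_mod]
    have h4 : 3 ∣ 2 ^ (2 * c + 1) + 1 := by rw [pow_succ]; omega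
    obtain ⟨p, b, hp, -, e⟩ := (isPrimePow_nat_iff _).1 h2
    rw [← e] at h4
    rw [← (Nat.prime_dvd_prime_iff_eq Nat.prime_three hp).1 (Nat.prime_three.dvd_of_dvd_pow h4)] at e
    exact EPD.three_pow_sub e hn

theorem abel [Finite G] (h : EP G) {T : Subgroup G} {n : ℕ} {k s : G} (Z : Zas G T n k s)
    (hT : IsMulCommutative T) :
    ∃ (F : Type) (_ : Field F) (_ : Fintype F), Fintype.card F ∈ ({4, 7, 8, 17} : Finset ℕ) ∧
      Nonempty (G ≃* Matrix.ProjectiveSpecialLinearGroup (Fin 2) F) := by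
  obtain ⟨a, ha, b, hb, a2, b2, a1, b1, hab⟩ := Z.exists_two
  have hTc : ∀ x ∈ T, ∀ y ∈ T, x * y = y * x := fun x hx y hy =>
    congrArg Subtype.val (hT.1.1 ⟨x, hx⟩ ⟨y, hy⟩)
  obtain ⟨F, _, _, h1, ⟨e⟩, h2, h3⟩ := aic h (fun t ht => ⟨⟨fun x y => Subtype.ext (by
    obtain ⟨g, -, hg⟩ := conj_into Z.maxP (mem_top t) (by rw [← pow_two, ← ht, pow_orderOf_eq_one])
    have t1 : g * t * g⁻¹ ≠ 1 := fun e => by
      rw [show t = 1 by simpa using e, orderOf_one] at ht
      omega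
    have key : ∀ x : centralizer ({t} : Set G), g * x * g⁻¹ ∈ T := fun x => Z.cent _ hg t1 _ (by
      have := mem_centralizer_singleton_iff.1 x.2
      rw [show g * x * g⁻¹ * (g * t * g⁻¹) = g * (x * t) * g⁻¹ by group, this]; group)
    have := hTc _ (key x) _ (key y)
    simpa [← mul_assoc] using (show (x : G) * (y * g⁻¹) = y * (x * g⁻¹) by
      simpa [mul_assoc] using this))⟩⟩) a2 b2 a1 b1 hab (hTc a ha b hb) Z.s_sq Z.s_k Z.k_pow
  have h4 : centralizer {a} = T := le_antisymm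
    (fun g hg => Z.cent a ha a1 g (mem_centralizer_singleton_iff.1 hg))
    fun g hg => mem_centralizer_singleton_iff.2 (hTc g hg a ha)
  rw [h4] at h3
  have h5 := Z.card_G
  rw [Nat.card_congr e.toEquiv, SL2.card_SL2', h3, mul_right_comm] at h5
  have h6 := Nat.eq_of_mul_eq_mul_left (Nat.mul_pos Nat.card_pos (Nat.succ_pos _)) h5
  have h7 : Nat.card F = 2 ^ n := by
    have := Nat.card_pos (α := F)
    have := Nat.one_le_two_pow (n := n)
    omega
  refine ⟨F, inferInstance, inferInstance, ?_, ⟨e.trans (SL2.prEquiv (CharP.cast_eq_zero F 2))⟩⟩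
  rw [← Nat.card_eq_fintype_card, h7]
  rcases four_or_eight Z.two_le Z.prime (h7 ▸ h2) with rfl | rfl <;> decide

end Cfsg.Agent.EPB
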