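import Cfsg.Agent.Lib.EPB.B3a

/-! The Zassenhaus case with non-abelian Sylow 2-subgroup: reduction to `|T| = q²`. -/

set_option autoImplicit false
set_option linter.unusedSectionVars false

namespace Cfsg.Agent.EPB

open Subgroup EPO

universe u

variable {G : Type u} [Group G] [Finite G]

theorem sylow_m (h : EP G) {p m : ℕ} (hp : p.Prime) (hc : Nat.card G = m * p) (hm : ¬ p ∣ m) :
    ∃ a b : ℕ, a ∣ p - 1 ∧ b % p = 1 ∧ b * a = m ∧
      (IsSimpleGroup G → ¬ IsMulCommutative G → a ≠ 1) := by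
  have := Fact.mk hp
  obtain ⟨Q⟩ : Nonempty (Sylow p G) := inferInstance
  obtain ⟨h1, h2, a, h3, h4, h5⟩ := Nine.exists_m hc hm (fun g hg => by
    obtain ⟨j, hj⟩ := h.pelt hp hg
    obtain ⟨i, -, hi⟩ := (Nat.dvd_prime_pow hp).1 (orderOf_dvd_of_pow_eq_one hj)
    have h6 := orderOf_dvd_natCard g
    rw [hi] at hg h6 ⊢
    rcases i with _ | _ | i
    · exact absurd (Nat.dvd_one.1 hg) hp.one_lt.ne'
    · exact pow_one p
    · rw [hc, pow_succ] at h6
      exact absurd ((dvd_pow_self p (by omega)).trans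
        (Nat.dvd_of_mul_dvd_mul_right hp.pos h6)) hm) Q
  refine ⟨a, _, h3, by rw [card_sylow_modEq_one p G, Nat.mod_eq_of_lt hp.one_lt], h5,
    fun _ hG e => ?_⟩
  obtain ⟨g, g1, g2⟩ := Nine.exists_not_cent hG Q (hc ▸ Dvd.intro_left _ rfl)
  rw [e, one_mul] at h4
  rw [h2, eq_of_le_of_card_ge (le_normalizer (H := (Q : Subgroup G))) (by rw [h1]; exact h4.le)] at g2
  exact g2 g1

namespace Zas
variable {T : Subgroup G} {n : ℕ} {k s : G} (Z : Zas G T n k s)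
include Z

theorem card_om : Nat.card (R3.omZ 2 T) = 2 ^ n := by
  rw [← Z.card_inv]
  exact Nat.card_congr ⟨fun x => ⟨⟨x, x.2.1⟩, Subtype.ext (by simpa [pow_two] using x.2.2.1)⟩,
    fun x => ⟨x.1, x.1.2, by rw [pow_two]; exact congrArg Subtype.val x.2,
      Z.inv_cent _ x.1.2 (congrArg Subtype.val x.2)⟩, fun _ => rfl, fun _ => rfl⟩

theorem mem_om {x : G} : x ∈ R3.omZ 2 T ↔ x ∈ T ∧ x * x = 1 :=
  ⟨fun h => ⟨h.1, by rw [← pow_two]; exact h.2.1⟩,
    fun h => ⟨h.1, by rw [pow_two]; exact h.2, Z.inv_cent _ h.1 h.2⟩⟩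

theorem K_le : zpowers k ≤ normalizer (T : Set G) := zpowers_le.2 Z.k_mem

theorem conj_om {c w : G} (hc : c ∈ zpowers k) (hw : w ∈ R3.omZ 2 T) : c * w * c⁻¹ ∈ R3.omZ 2 T :=
  (mem_normalizer_iff.1 ((R3.omZ_isChar T).le_normalizer (Z.K_le hc)) w).1 hw

theorem s_c {c : G} (hc : c ∈ zpowers k) : s * c = c⁻¹ * s := by
  obtain ⟨i, rfl⟩ := hc
  have hi : s⁻¹ = s := inv_eq_of_mul_eq_one_right Z.s_sq
  have := conj_zpow (a := s) (b := k) (i := i)
  rw [hi, Z.s_k, inv_zpow] at this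
  simp only
  rw [this, mul_assoc, Z.s_sq, mul_one]

theorem decomp {z : G} (hz : z ∈ T) (hz2 : z * z = 1) (hz1 : z ≠ 1) (hs : s * z * s = z * s * z)
    {g : G} (hg : g ∈ closure ((R3.omZ 2 T : Set G) ∪ (zpowers k : Set G) ∪ {s})) :
    (∃ w ∈ R3.omZ 2 T, ∃ c ∈ zpowers k, g = w * c) ∨
      ∃ w ∈ R3.omZ 2 T, ∃ c ∈ zpowers k, ∃ w' ∈ R3.omZ 2 T, g = w * c * s * w' := by
  have hzo : z ∈ R3.omZ 2 T := Z.mem_om.2 ⟨hz, hz2⟩
  have key : ∀ x ∈ (R3.omZ 2 T : Set G) ∪ (zpowers k : Set G) ∪ {s}, ∀ g : G,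
      ((∃ w ∈ R3.omZ 2 T, ∃ c ∈ zpowers k, g = w * c) ∨
        ∃ w ∈ R3.omZ 2 T, ∃ c ∈ zpowers k, ∃ w' ∈ R3.omZ 2 T, g = w * c * s * w') →
      ((∃ w ∈ R3.omZ 2 T, ∃ c ∈ zpowers k, x * g = w * c) ∨
        ∃ w ∈ R3.omZ 2 T, ∃ c ∈ zpowers k, ∃ w' ∈ R3.omZ 2 T, x * g = w * c * s * w') := by
    rintro x ((hx | hx) | rfl) g (⟨w, hw, c, hc, rfl⟩ | ⟨w, hw, c, hc, w', hw', rfl⟩)
    · exact Or.inl ⟨x * w, mul_mem hx hw, c, hc, by group⟩
    · exact Or.inr ⟨x * w, mul_mem hx hw, c, hc, w', hw', by group⟩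
    · exact Or.inl ⟨_, Z.conj_om hx hw, x * c, mul_mem hx hc, by group⟩
    · exact Or.inr ⟨_, Z.conj_om hx hw, x * c, mul_mem hx hc, w', hw', by group⟩
    · refine Or.inr ⟨1, one_mem _, c⁻¹, inv_mem hc, _, Z.conj_om (inv_mem hc) hw, ?_⟩
      rw [one_mul, ← Z.s_c hc]; group
    · by_cases h1 : w = 1
      · refine Or.inl ⟨_, Z.conj_om (inv_mem hc) hw', c⁻¹, inv_mem hc, ?_⟩
        rw [h1, one_mul, ← mul_assoc, ← mul_assoc, Z.s_c hc, mul_assoc _ x x, Z.s_sq]; group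
      obtain ⟨i, hi⟩ := Z.inv_trans z hz w hw.1 hz2 (Z.mem_om.1 hw).2 hz1 h1
      have hd : k ^ i ∈ zpowers k := pow_mem (mem_zpowers k) i
      generalize k ^ i = d at hi hd
      have he : d * c⁻¹ ∈ zpowers k := mul_mem hd (inv_mem hc)
      refine Or.inr ⟨_, Z.conj_om (inv_mem hd) hzo, d⁻¹ * (d * c⁻¹)⁻¹, mul_mem (inv_mem hd) (inv_mem he),
        _, mul_mem (Z.conj_om (inv_mem he) hzo) hw', ?_⟩
      have e1 : d⁻¹ * c * x = x * (d * c⁻¹) := by
        rw [Z.s_c he, mul_inv_rev, inv_inv]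
        congr 1
        obtain ⟨a, rfl⟩ := hd
        obtain ⟨b, rfl⟩ := hc
        simp only
        group
      calc x * (w * c * x * w') = x * d * z * (d⁻¹ * c * x) * w' := by rw [← hi]; group
        _ = d⁻¹ * (x * z * x) * (d * c⁻¹) * w' := by rw [e1, Z.s_c hd]; group
        _ = d⁻¹ * z * (x * (d * c⁻¹)) * ((d * c⁻¹)⁻¹ * z * (d * c⁻¹) * w') := by rw [hs]; group
        _ = _ := by rw [Z.s_c he]; group
  induction hg using closure_induction_left with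
  | one => exact Or.inl ⟨1, one_mem _, 1, one_mem _, by simp⟩
  | mul_left x hx y _ ih => exact key x hx y ih
  | inv_mul_cancel x hx y _ ih =>
    refine key x⁻¹ ?_ y ih
    rcases hx with (hx | hx) | rfl
    · exact Or.inl (Or.inl (inv_mem hx))
    · exact Or.inl (Or.inr (inv_mem hx))
    · exact Or.inr (inv_eq_of_mul_eq_one_right Z.s_sq)

theorem primePow_of_three (h : EP G) {z : G} (hz : z ∈ T) (hz2 : z * z = 1) (hz1 : z ≠ 1)
    (hs : s * z * s = z * s * z) : IsPrimePow (2 ^ n + 1) := by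
  set L := closure ((R3.omZ 2 T : Set G) ∪ (zpowers k : Set G) ∪ {s}) with hL
  have hOL : R3.omZ 2 T ≤ L := fun x hx => subset_closure (Or.inl (Or.inl hx))
  have hzo : z ∈ R3.omZ 2 T := Z.mem_om.2 ⟨hz, hz2⟩
  have hLT : ∀ g ∈ L, g ∈ T → g ∈ R3.omZ 2 T := fun g hg hgT => by
    rcases Z.decomp hz hz2 hz1 hs hg with ⟨w, hw, c, hc, rfl⟩ | ⟨w, hw, c, hc, w', hw', rfl⟩
    · obtain ⟨j, hj⟩ := pow_of_mem Z.pg ((mul_mem_cancel_left hw.1).1 hgT)
      have h1 := orderOf_dvd_of_mem_zpowers hc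
      rw [Z.ord_k] at h1
      have h2 := Nat.eq_one_of_dvd_coprimes (Nat.Coprime.pow_left j (Nat.coprime_two_left.2 Z.odd_q))
        (orderOf_dvd_of_pow_eq_one hj) h1
      rwa [orderOf_eq_one_iff.1 h2, mul_one]
    · refine absurd ?_ Z.s_not
      have h1 := le_normalizer hgT
      rwa [mul_mem_cancel_right (le_normalizer hw'.1),
        mul_mem_cancel_left (mul_mem (le_normalizer hw.1) (Z.K_le hc))] at h1
  have hmax : MaxP 2 L (R3.omZ 2 T) := by
    refine MaxP.of_norm (K := L ⊓ normalizer (T : Set G))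
      ⟨le_inf hOL fun x hx => le_normalizer hx.1, Z.pg.to_le fun x hx => hx.1,
        fun T' h1 h2 _ x hx => ?_⟩ hOL fun x hx hxn => ⟨hx, ?_⟩
    · obtain ⟨j, hj⟩ := pow_of_mem h2 hx
      exact hLT x (h1 hx).1 (Z.mem_of_pow x (h1 hx).2 j hj)
    · by_contra hn
      exact hz1 (Z.ti x hn z hz ((mem_normalizer_iff.1 hxn z).1 hzo).1)
  obtain ⟨a, ha, b, hb, a2, b2, a1, b1, hab⟩ := Z.exists_two
  have ha' := Z.mem_om.2 ⟨ha, a2⟩
  have hb' := Z.mem_om.2 ⟨hb, b2⟩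
  obtain ⟨F, _, _, -, -, h2, h3⟩ := aic (h.subgroup L) (a := ⟨a, hOL ha'⟩) (b := ⟨b, hOL hb'⟩)
    (s := ⟨s, subset_closure (Or.inr rfl)⟩)
    (k := ⟨k, subset_closure (Or.inl (Or.inr (mem_zpowers k)))⟩)
    (fun t ht => ⟨⟨fun x y => Subtype.ext (Subtype.ext (by
      obtain ⟨g, hgL, hg⟩ := conj_into hmax t.2 (by
        rw [← Subgroup.coe_mul, ← pow_two, ← ht, pow_orderOf_eq_one, Subgroup.coe_one])
      have t1 : g * t * g⁻¹ ≠ 1 := fun e => by
        rw [show t = 1 from Subtype.ext (by simpa using e), orderOf_one] at ht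
        omega
      have key : ∀ x : centralizer ({t} : Set L), g * x * g⁻¹ ∈ R3.omZ 2 T := fun x =>
        hLT _ (mul_mem (mul_mem hgL x.1.2) (inv_mem hgL)) (Z.cent _ hg.1 t1 _ (by
          have : (x : G) * t = t * x := congrArg Subtype.val (mem_centralizer_singleton_iff.1 x.2)
          rw [show g * x * g⁻¹ * (g * t * g⁻¹) = g * (x * t) * g⁻¹ by group, this]; group))
      have := (key x).2.2 _ (key y).1
      simpa [← mul_assoc] using (show (x : G) * (y * g⁻¹) = y * (x * g⁻¹) by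
        simpa [mul_assoc] using this)))⟩⟩)
    (Subtype.ext a2) (Subtype.ext b2) (fun e => a1 (congrArg Subtype.val e))
    (fun e => b1 (congrArg Subtype.val e)) (fun e => hab (congrArg Subtype.val e))
    (Subtype.ext (ha'.2.2 b hb)) (Subtype.ext Z.s_sq) (Subtype.ext Z.s_k)
    fun j e => Z.k_pow j (congrArg Subtype.val e)
  have h4 : centralizer {(⟨a, hOL ha'⟩ : L)} = (R3.omZ 2 T).subgroupOf L := by
    ext x
    rw [mem_centralizer_singleton_iff, mem_subgroupOf]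
    exact ⟨fun e => hLT _ x.2 (Z.cent a ha a1 _ (congrArg Subtype.val e)),
      fun e => Subtype.ext (e.2.2 a ha)⟩
  rwa [← h3, h4, Nat.card_congr (subgroupOfEquivOfLe hOL).toEquiv, Z.card_om] at h2

end Zas

theorem sq_or [IsSimpleGroup G] (hG : ¬ IsMulCommutative G) (h : EP G) {T : Subgroup G} {n : ℕ}
    {k s : G} (Z : Zas G T n k s)
    (hc : Nat.card T = (2 ^ n) ^ 2 ∨ Nat.card T = (2 ^ n) ^ 3) {z r : G} (hz : z ∈ T)
    (hz2 : z * z = 1) (hz1 : z ≠ 1) (hs : s * z * s = r⁻¹ * s * r)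
    (ho : (r = z ∧ orderOf (z * s) = 3) ∨ (r * r = z ∧ orderOf (z * s) = 5)) :
    Nat.card T = (2 ^ n) ^ 2 ∧ r * r = z ∧ Odd n := by
  have hn := (Nat.prime_of_pow_sub_one_prime (by have := Z.two_le; omega) Z.prime).2
  have hG' := Z.card_G
  have hodd : Odd n := hn.odd_of_ne_two (by
    rintro rfl
    rcases hc with e | e <;> rw [e] at hG'
    · obtain ⟨a, b, h1, h2, h3, -⟩ := sylow_m h (p := 17) (m := 48) (by norm_num) hG' (by norm_num)
      have := Nat.le_of_dvd (by norm_num) h1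
      interval_cases a <;> omega
    · obtain ⟨a, b, h1, h2, h3, -⟩ := sylow_m h (p := 13) (m := 960) (by norm_num) hG' (by norm_num)
      have := Nat.le_of_dvd (by norm_num) h1
      interval_cases a <;> omega)
  obtain ⟨c, rfl⟩ := hodd
  have hd := orderOf_dvd_natCard (z * s)
  obtain ⟨q, hq⟩ : ∃ q, 2 ^ (2 * c + 1) = q + 1 :=
    Nat.exists_eq_add_of_le' Nat.one_le_two_pow
  have h3 : q % 3 = 1 := by
    have : (2 ^ (2 * c)) % 3 = 1 := by rw [pow_mul]; simp [Nat.pow_mod]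
    rw [pow_succ] at hq
    omega
  have h5 : q % 5 = 1 ∨ q % 5 = 2 := by
    have : 4 ^ c % 5 = 1 ∨ 4 ^ c % 5 = 4 := by
      clear * -
      induction c with
      | zero => simp
      | succ c ih => rw [pow_succ]; omega
    rw [pow_succ, pow_mul] at hq
    norm_num at hq
    omega
  rcases hc with e | e
  · refine ⟨e, (ho.resolve_left fun e1 => ?_).1, c, rfl⟩
    rw [e1.2, hG', e, hq, Nat.add_sub_cancel, Nat.dvd_iff_mod_eq_zero] at hd
    simp [Nat.mul_mod, Nat.add_mod, Nat.pow_mod, h3] at hd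
  · exfalso
    rcases ho with ⟨rfl, -⟩ | ⟨-, e1⟩
    · rw [inv_eq_of_mul_eq_one_right hz2] at hs
      rcases four_or_eight Z.two_le Z.prime (Z.primePow_of_three h hz hz2 hz1 hs) with e2 | e2
      · omega
      rw [e, e2] at hG'
      obtain ⟨a, b, h1, h2, h3, h4⟩ := sylow_m h (p := 19) (m := 96768) (by norm_num) hG' (by norm_num)
      have := h4 inferInstance hG
      have := Nat.le_of_dvd (by norm_num) h1
      interval_cases a <;> omega
    · rw [e1, hG', e, hq, Nat.add_sub_cancel, Nat.dvd_iff_mod_eq_zero] at hd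
      rcases h5 with h5 | h5 <;> simp [Nat.mul_mod, Nat.add_mod, Nat.pow_mod, h5] at hd

end Cfsg.Agent.EPB
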