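import Cfsg.Agent.Lib.EPO.A

/-! Zassenhaus data of a group with elements of prime power order and TI Sylow 2-subgroups. -/

set_option autoImplicit false

namespace Cfsg.Agent.EPB

open Subgroup

universe u

/-- `T` is a TI Sylow 2-subgroup with `2^n - 1` (a prime) involutions, `N(T) = T⟨k⟩`,
`s` is an involution inverting `k`, `G = N(T) ∪ T⟨k⟩sT`. -/
structure Zas (G : Type u) [Group G] (T : Subgroup G) (n : ℕ) (k s : G) : Prop where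
  two_le : 2 ≤ n
  prime : (2 ^ n - 1).Prime
  pg : IsPGroup 2 T
  /-- a 2-element normalising `T` lies in `T` -/
  mem_of_pow : ∀ g ∈ normalizer (T : Set G), ∀ j : ℕ, g ^ 2 ^ j = 1 → g ∈ T
  ord_k : orderOf k = 2 ^ n - 1
  k_mem : k ∈ normalizer (T : Set G)
  s_sq : s * s = 1
  s_k : s * k * s = k⁻¹
  s_not : s ∉ normalizer (T : Set G)
  ti : ∀ g, g ∉ normalizer (T : Set G) → ∀ x ∈ T, g * x * g⁻¹ ∈ T → x = 1
  cent : ∀ t ∈ T, t ≠ 1 → ∀ g, g * t = t * g → g ∈ T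
  cent_k : ∀ i : ℕ, k ^ i ≠ 1 → ∀ g, g * k ^ i = k ^ i * g → g ∈ zpowers k
  inv_cent : ∀ t ∈ T, t * t = 1 → ∀ u ∈ T, t * u = u * t
  card_inv : Nat.card {t : T // t * t = 1} = 2 ^ n
  inv_trans : ∀ t ∈ T, ∀ t' ∈ T, t * t = 1 → t' * t' = 1 → t ≠ 1 → t' ≠ 1 →
    ∃ i : ℕ, k ^ i * t * (k ^ i)⁻¹ = t'
  norm : ∀ g ∈ normalizer (T : Set G), ∃ t ∈ T, ∃ i : ℕ, g = t * k ^ i
  bruhat : ∀ g, g ∉ normalizer (T : Set G) → ∃ u ∈ T, ∃ i : ℕ, ∃ v ∈ T, g = u * k ^ i * s * v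
  card_norm : Nat.card (normalizer (T : Set G)) = Nat.card T * (2 ^ n - 1)
  card_G : Nat.card G = Nat.card T * (Nat.card T + 1) * (2 ^ n - 1)

end Cfsg.Agent.EPB
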