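import Cfsg.Agent.Lib.EPB.Zas
import Cfsg.Agent.Lib.EPB.B3b
import Cfsg.Agent.Lib.EPH.Cnt
import Cfsg.Agent.Lib.EPO.E
import Cfsg.Agent.Lib.Blk.ZStar

/-! The case of TI Sylow 2-subgroups, up to the identification of the Suzuki groups. -/

set_option autoImplicit false

namespace Cfsg.Agent.EPB

open Subgroup EPO EPC

universe u

variable {G : Type u} [Group G] [Finite G]

theorem ti_of_sylow (T : Sylow 2 G)
    (hTI : ∀ T' : Sylow 2 G, T ≠ T' → ∀ x ∈ (T : Subgroup G), x ∈ (T' : Subgroup G) → x = 1) :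
    ∀ g : G, g ∉ normalizer ((T : Subgroup G) : Set G) → ∀ x ∈ (T : Subgroup G),
      g * x * g⁻¹ ∈ (T : Subgroup G) → x = 1 := by
  intro g hg x hx hgx
  have hne : T ≠ g • T := fun e => hg (Sylow.smul_eq_iff_mem_normalizer.1 e.symm)
  have := hTI (g • T) hne _ hgx ⟨x, hx, rfl⟩
  simpa using this

theorem exists_zas_of_simple [IsSimpleGroup G] (hG : ¬ IsMulCommutative G) (h : EP G)
    (T : Sylow 2 G)
    (hTI : ∀ T' : Sylow 2 G, T ≠ T' → ∀ x ∈ (T : Subgroup G), x ∈ (T' : Subgroup G) → x = 1) :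
    ∃ n k s, Zas G T n k s := by
  have H : TIH T := ⟨h, ti_of_sylow T hTI⟩
  obtain ⟨t0, ht0⟩ := exists_prime_orderOf_dvd_card' (G := G) 2
    (even_iff_two_dvd.1 (even_card hG h))
  have hp : IsPGroup 2 (zpowers t0) := pg_zpowers (n := 1) (by rw [pow_one, ← ht0, pow_orderOf_eq_one])
  obtain ⟨Q, hQ⟩ := hp.exists_le_sylow
  obtain ⟨g, hg⟩ := MulAction.exists_smul_eq G Q T
  have ht : g * t0 * g⁻¹ ∈ (T : Subgroup G) := by
    rw [← hg]; exact ⟨t0, hQ (mem_zpowers t0), rfl⟩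
  have ho : orderOf (g * t0 * g⁻¹) = 2 := by
    rw [← ht0]; exact (orderOf_injective (MulAut.conj g).toMonoidHom (MulAut.conj g).injective t0)
  generalize g * t0 * g⁻¹ = t at ht ho
  have ht1 : t ≠ 1 := by rintro rfl; simp at ho
  have ht2 : t * t = 1 := by rw [← pow_two, ← ho, pow_orderOf_eq_one]
  have hcen : center G = ⊥ := by
    rcases (inferInstance : (center G).Normal).eq_bot_or_eq_top with h' | h'
    · exact h'
    · exact absurd ⟨⟨fun a b => (mem_center_iff.1 (h' ▸ mem_top b) a)⟩⟩ hG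
  obtain ⟨x, hx, hx'⟩ := Blk.exists_conj_commute ht1 ht2 (by
    by_contra hc
    push Not at hc
    have : t ∈ center G := mem_center_iff.2 fun g => (hc g).eq
    rw [hcen] at this
    exact ht1 this)
  have hxT : x * t * x⁻¹ ∈ (T : Subgroup G) := H.cent ht ht1 hx.eq
  have hxo : orderOf (x * t * x⁻¹) = 2 := by
    rw [← ho]; exact (orderOf_injective (MulAut.conj x).toMonoidHom (MulAut.conj x).injective t)
  refine exists_zas h T H.ti (fun hn => ?_) hxT ht hxo ho hx'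
  rcases hn.eq_bot_or_eq_top with h' | h'
  · rw [h'] at ht; exact ht1 ht
  · obtain ⟨z, hz, hz1, -, hzc⟩ := TIH.exists_central ht ht1
    have : z ∈ center G := mem_center_iff.2 fun g => (hzc g (h' ▸ mem_top g)).symm
    rw [hcen] at this
    exact hz1 this

/-- conjugation by `k` as an automorphism of `T` -/
noncomputable def Zas.aut {T : Subgroup G} {n : ℕ} {k s : G} (Z : Zas G T n k s) : MulAut T :=
  T.normalizerMonoidHom ⟨k, Z.k_mem⟩

omit [Finite G] in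
theorem Zas.aut_apply {T : Subgroup G} {n : ℕ} {k s : G} (Z : Zas G T n k s) (x : T) :
    (Z.aut x : G) = k * x * k⁻¹ := rfl

theorem Zas.higman {T : Subgroup G} {n : ℕ} {k s : G} (Z : Zas G T n k s) :
    IsMulCommutative T ∨ ((∀ x ∈ T, x ^ 4 = 1) ∧
      (Nat.card T = (2 ^ n) ^ 2 ∨ Nat.card T = (2 ^ n) ^ 3)) := by
  have := EPH.higman Z.pg Z.aut Z.two_le Z.prime ?_ ?_ ?_ Z.card_inv
  · rcases this with h | ⟨h1, h2⟩
    · exact Or.inl h
    · exact Or.inr ⟨fun x hx => congrArg Subtype.val (h1 ⟨x, hx⟩), h2⟩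
  · rw [Zas.aut, ← map_pow]
    have : (⟨k, Z.k_mem⟩ : normalizer (T : Set G)) ^ (2 ^ n - 1) = 1 :=
      Subtype.ext (by rw [← Z.ord_k]; exact pow_orderOf_eq_one k)
    rw [this, map_one]
  · intro x hx
    by_contra hx1
    have e : k * x * k⁻¹ = x := congrArg Subtype.val hx
    have hk : k ∈ T := Z.cent x x.2 (fun h => hx1 (Subtype.ext h)) k (by
      rw [mul_inv_eq_iff_eq_mul] at e; exact e)
    obtain ⟨j, hj⟩ := pow_of_mem Z.pg hk
    exact Z.k_pow j hj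
  · intro t ht
    exact mem_center_iff.2 fun u =>
      Subtype.ext (Z.inv_cent t t.2 (congrArg Subtype.val ht) u u.2).symm

/-- TI case: `L₂(4)`, `L₂(8)`, or the data of a Suzuki group -/
theorem main_TI [IsSimpleGroup G] (hG : ¬ IsMulCommutative G) (h : EP G) (T : Sylow 2 G)
    (hTI : ∀ T' : Sylow 2 G, T ≠ T' → ∀ x ∈ (T : Subgroup G), x ∈ (T' : Subgroup G) → x = 1) :
    (∃ (F : Type) (_ : Field F) (_ : Fintype F), Fintype.card F ∈ ({4, 7, 8, 17} : Finset ℕ) ∧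
      Nonempty (G ≃* Matrix.ProjectiveSpecialLinearGroup (Fin 2) F)) ∨
    ∃ (n : ℕ) (k s z r : G), Zas G T n k s ∧ Nat.card (T : Subgroup G) = (2 ^ n) ^ 2 ∧
      ¬ IsMulCommutative (T : Subgroup G) ∧ z ∈ (T : Subgroup G) ∧ r ∈ (T : Subgroup G) ∧
      r * r = z ∧ z ≠ 1 ∧ z * z = 1 ∧ s * z * s = r⁻¹ * s * r ∧ Odd n ∧ orderOf (z * s) = 5 ∧
      ∀ x ∈ (T : Subgroup G), x ^ 4 = 1 := by
  obtain ⟨n, k, s, Z⟩ := exists_zas_of_simple hG h T hTI
  by_cases hT : IsMulCommutative (T : Subgroup G)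
  · exact Or.inl (abel h Z hT)
  obtain ⟨h4, hc⟩ := Z.higman.resolve_left hT
  obtain ⟨z, hz, r, hr, hz2, hz1, hs, ho⟩ := Z.struct h h4
  obtain ⟨h1, h2, h3⟩ := sq_or hG h Z hc hz hz2 hz1 hs ho
  refine Or.inr ⟨n, k, s, z, r, Z, h1, hT, hz, hr, h2, hz1, hz2, hs, h3, ?_, h4⟩
  rcases ho with ⟨rfl, -⟩ | ⟨-, h5⟩
  · exact absurd (h2.symm.trans hz2) hz1
  · exact h5

end Cfsg.Agent.EPB
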