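import Cfsg.Agent.Lib.EPO.A
import Cfsg.Agent.Lib.Suz.Torus
import Cfsg.Agent.Lib.Suz.Iso

/-! Suzuki groups all of whose elements have prime power order. -/

set_option autoImplicit false

namespace Cfsg.Agent.EPB
open Suz

theorem two_pow_dvd_of_five {j k : ℕ} (h : 2 ^ (j + 2) ∣ 5 ^ k - 1) : 2 ^ j ∣ k := by
  rw [← ZMod.orderOf_five j, orderOf_dvd_iff_pow_eq_one]
  have h1 := (Nat.modEq_iff_dvd' (Nat.one_le_pow k 5 (by norm_num))).2 h
  have h2 := (ZMod.natCast_eq_natCast_iff _ _ _).2 h1.symm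
  exact_mod_cast h2

theorem le_two_of_five {m k t : ℕ} (hm : 1 ≤ m) (ht : t = tp m ∨ t = tm m) (h : 5 ^ k = t) : m ≤ 2 := by
  obtain ⟨j, rfl⟩ : ∃ j, m = j + 1 := ⟨m - 1, by omega⟩
  have h1 : 2 ^ (j + 2) ∣ 2 ^ (2 * (j + 1) + 1) := pow_dvd_pow _ (by omega)
  have h2 : 2 ^ (j + 2) ∣ 5 ^ k - 1 := by
    rw [h]
    rcases ht with rfl | rfl
    · rw [tp, Nat.add_sub_cancel]; exact dvd_add h1 dvd_rfl
    · rw [tm, Nat.add_sub_cancel]; exact Nat.dvd_sub h1 dvd_rfl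
  have h3 := five_le_tm hm
  have h4 := tm_lt_tp (j + 1)
  have hk : k ≠ 0 := by rintro rfl; rw [pow_zero] at h; omega
  have h5 := Nat.le_of_dvd (Nat.pos_of_ne_zero hk) (two_pow_dvd_of_five h2)
  have h6 : 4 ^ k < 4 ^ (j + 2) := by
    have h7 : 4 ^ k < 5 ^ k := Nat.pow_lt_pow_left (by norm_num) hk
    have h8 := two_pow_succ_add_two_lt hm
    have h9 : 4 ^ (j + 2) = 2 * 2 ^ (2 * (j + 1) + 1) := by
      rw [show 4 = 2 ^ 2 from rfl, ← pow_mul]; ring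
    have : t ≤ tp (j + 1) := by omega
    unfold tp at this
    omega
  have h7 := (Nat.pow_lt_pow_iff_right (by norm_num)).1 h6
  by_contra h8
  obtain ⟨i, rfl⟩ : ∃ i, j = i + 2 := ⟨j - 2, by omega⟩
  have := Nat.lt_two_pow_self (n := i)
  rw [pow_add] at h5
  omega

theorem sz_num {F : Type} [Field F] [Fintype F] {m : ℕ} [SuzF F m] {G : Type*} [Group G] (h : EPO.EP G)
    (e : G ≃* Suz.G F m) : ∃ (F : Type) (_ : Field F) (_ : Fintype F),
      (Fintype.card F = 8 ∧ Nonempty (G ≃* ↥(Cfsg.Lie.Sz F 4))) ∨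
        (Fintype.card F = 32 ∧ Nonempty (G ≃* ↥(Cfsg.Lie.Sz F 8))) := by
  have hm := one_le_m F
  have key : ∀ t, t = tp m ∨ t = tm m → 5 ∣ t → m ≤ 2 := by
    intro t ht h5
    obtain ⟨b, hb⟩ := exists_orderOf_eq (F := F) ht
    have h1 : orderOf (e.symm (u 0 b * w)) = t := (e.symm.orderOf_eq _).trans hb
    have h2 := h (e.symm (u 0 b * w)) fun e1 => by
      rw [e1, orderOf_one] at h1
      rw [← h1] at h5
      omega
    rw [h1] at h2
    obtain ⟨p, k, hp, -, e1⟩ := (isPrimePow_nat_iff _).1 h2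
    obtain rfl : 5 = p := (Nat.prime_dvd_prime_iff_eq Nat.prime_five hp).1
      (Nat.prime_five.dvd_of_dvd_pow (e1 ▸ h5))
    exact le_two_of_five hm ht e1
  have h5 : 5 ∣ tp m * tm m := by
    rw [tp_mul_tm, ← pow_mul, mul_comm, pow_mul]
    exact Odd.nat_add_dvd_pow_add_pow 4 1 (odd_two_mul_add_one m) |>.trans (by simp)
  have h2 : m ≤ 2 := ((Nat.Prime.dvd_mul Nat.prime_five).1 h5).elim (key _ (Or.inl rfl)) (key _ (Or.inr rfl))
  have hc := card_F (F := F)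
  rw [Nat.card_eq_fintype_card] at hc
  have e2 := e.trans (lieEquiv F)
  obtain rfl | rfl : m = 1 ∨ m = 2 := by omega
  · exact ⟨F, _, _, Or.inl ⟨hc, ⟨e2⟩⟩⟩
  · exact ⟨F, _, _, Or.inr ⟨hc, ⟨e2⟩⟩⟩

end Cfsg.Agent.EPB
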