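import Cfsg.Agent.Lib.EPB.Defs
import Cfsg.Agent.Lib.EPC.Defs
import Cfsg.Agent.Lib.J3T.Cnt
import Cfsg.Agent.Lib.Nine.B

/-! Groups with elements of prime power order and TI Sylow 2-subgroups are Zassenhaus groups. -/

set_option autoImplicit false

namespace Cfsg.Agent.EPB

open Subgroup EPO EPC

universe u

theorem mersenne_pow {p c n : ℕ} (hp : p.Prime) (hn : 2 ≤ n) (h : p ^ c + 1 = 2 ^ n) : c = 1 := by
  have h2 := hp.two_le
  obtain ⟨m, rfl⟩ : ∃ m, n = m + 2 := ⟨n - 2, by omega⟩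
  have hc0 : c ≠ 0 := by
    rintro rfl
    rw [pow_zero, pow_add] at h; omega
  have ho : p % 2 = 1 := by
    rcases hp.eq_two_or_odd with rfl | h'
    · obtain ⟨c, rfl⟩ : ∃ d, c = d + 1 := ⟨c - 1, by omega⟩
      rw [pow_succ, pow_add] at h; omega
    · exact h'
  rcases Nat.even_or_odd c with ⟨c, rfl⟩ | hb2
  · exfalso
    have hc : p ^ c % 2 = 1 := Nat.odd_iff.1 ((Nat.odd_iff.2 ho).pow)
    obtain ⟨j, hj⟩ : ∃ j, p ^ c = 2 * j + 1 := ⟨p ^ c / 2, by omega⟩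
    rw [pow_add, hj, pow_add] at h
    have : (2 * j + 1) * (2 * j + 1) = 4 * (j * j + j) + 1 := by ring
    omega
  · have hb3 : (c : ℤ) % 2 = 1 := by have := Nat.odd_iff.1 hb2; omega
    have key : p ^ c = p → c = 1 := fun e =>
      Nat.pow_right_injective h2 (e.trans (pow_one p).symm)
    have h3 := geom_sum_mul (-(p : ℤ)) c
    rw [hb2.neg_pow] at h3
    have h4 := Nine.geom_sum_odd (x := -(p : ℤ)) (by omega) c
    generalize ∑ i ∈ Finset.range c, (-(p : ℤ)) ^ i = s at h3 h4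
    zify at h
    rcases Nine.abs_eq_one_of_dvd (s := s) (a := m + 2) ⟨p + 1, by linear_combination h3 - h⟩
      (by omega) with rfl | rfl
    · exact key (by zify; linear_combination h3)
    · have : (0 : ℤ) < p ^ c := by positivity
      omega

variable {G : Type u} [Group G]

theorem exists_swap_of_odd {i j : G} (hi : i * i = 1) (hj : j * j = 1) (ho : Odd (orderOf (i * j))) :
    ∃ s, s * s = 1 ∧ s * i * s = j := by
  obtain ⟨m, hm⟩ := ho
  have hi' : i⁻¹ = i := inv_eq_of_mul_eq_one_right hi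
  have hj' : j⁻¹ = j := inv_eq_of_mul_eq_one_right hj
  have e1 : i * (i * j) * i⁻¹ = (i * j)⁻¹ := by
    rw [← mul_assoc, hi, one_mul, mul_inv_rev, hi', hj']
  have e2 : i * (i * j) ^ m * i⁻¹ = ((i * j) ^ m)⁻¹ := by
    rw [← conj_pow, e1, inv_pow]
  have e3 : (i * j) ^ m * (i * j) ^ m * (i * j) = 1 := by
    rw [← pow_add, ← pow_succ, ← two_mul, ← hm, pow_orderOf_eq_one]
  refine ⟨(i * j) ^ m * i, ?_, ?_⟩
  · rw [hi'] at e2
    calc (i * j) ^ m * i * ((i * j) ^ m * i) = (i * j) ^ m * (i * (i * j) ^ m * i) := by group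
      _ = 1 := by rw [e2, mul_inv_cancel]
  · calc (i * j) ^ m * i * i * ((i * j) ^ m * i)
        = (i * j) ^ m * (i * i) * (i * j) ^ m * i := by group
      _ = (i * j) ^ m * (i * j) ^ m * (i * j) * (j⁻¹ * (i⁻¹ * i)) := by rw [hi]; group
      _ = j := by rw [e3, hj', inv_mul_cancel, one_mul, mul_one]

/-- the standing hypotheses -/
structure TIH (T : Sylow 2 G) : Prop where
  ep : EP G
  ti : ∀ g : G, g ∉ normalizer ((T : Subgroup G) : Set G) → ∀ x ∈ (T : Subgroup G),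
    g * x * g⁻¹ ∈ (T : Subgroup G) → x = 1

namespace TIH

variable [Finite G] {T : Sylow 2 G} (H : TIH T)

local notation "NT" => normalizer ((T : Subgroup G) : Set G)

omit [Finite G] in
theorem mem_of_pow {g : G} (hg : g ∈ NT) {j : ℕ} (h : g ^ 2 ^ j = 1) : g ∈ (T : Subgroup G) := by
  have := T.is_maximal' (pg_sup T.isPGroup' hg h) le_sup_right
  rw [← this]
  exact mem_sup_left (mem_zpowers g)

omit [Finite G] in
theorem mem_of_sq {g : G} (hg : g ∈ NT) (h : g * g = 1) : g ∈ (T : Subgroup G) :=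
  mem_of_pow hg (j := 1) (by rw [pow_one, pow_two, h])

include H

omit [Finite G] in
theorem mem_N {g x : G} (hx : x ∈ (T : Subgroup G)) (hx1 : x ≠ 1)
    (h : g * x * g⁻¹ ∈ (T : Subgroup G)) : g ∈ NT := by
  by_contra hg
  exact hx1 (H.ti g hg x hx h)

theorem le_of_mem {E : Subgroup G} (hE : IsPGroup 2 E) {t : G} (ht : t ∈ (T : Subgroup G))
    (ht1 : t ≠ 1) (htE : t ∈ E) : E ≤ T := by
  obtain ⟨Q, hQ⟩ := hE.exists_le_sylow
  obtain ⟨g, hg⟩ := MulAction.exists_smul_eq G Q T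
  have key : ∀ x ∈ E, g * x * g⁻¹ ∈ (T : Subgroup G) := fun x hx => by
    rw [← hg]
    exact ⟨x, hQ hx, rfl⟩
  have hN := H.mem_N ht ht1 (key t htE)
  intro x hx
  have := nm_cj' hN (key x hx)
  simpa [mul_assoc] using this

theorem cent {t g : G} (ht : t ∈ (T : Subgroup G)) (ht1 : t ≠ 1) (h : g * t = t * g) :
    g ∈ (T : Subgroup G) := by
  obtain ⟨j, hj⟩ := pow_of_mem T.isPGroup' ht
  obtain ⟨l, hl⟩ := H.ep.comm Nat.prime_two h.symm ht1 hj
  refine mem_of_pow (H.mem_N ht ht1 ?_) hl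
  rw [h, mul_inv_cancel_right]; exact ht

theorem odd_mul {i j : G} (hi : i ∈ (T : Subgroup G)) (hi1 : i ≠ 1) (hi2 : i * i = 1)
    (hj : j ∉ (T : Subgroup G)) (hj2 : j * j = 1) : Odd (orderOf (i * j)) := by
  rw [← Nat.not_even_iff_odd]
  intro he
  obtain ⟨m, hm⟩ := H.ep.pelt Nat.prime_two (even_iff_two_dvd.1 he)
  obtain ⟨E, hE, -, h1, h2⟩ := dihedral_two (D := ⊥) IsPGroup.of_bot
    (x := i) (y := j) (nm_of (by simp)) (nm_of (by simp))
    (by simp [hi2]) (by simp [hj2]) hm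
  exact hj (H.le_of_mem hE hi hi1 h1 h2)

/-- every coset `gN ≠ N` contains an involution conjugating `i` to `g j g⁻¹` -/
theorem exists_swap {g i j : G} (hg : g ∉ NT) (hi : i ∈ (T : Subgroup G)) (hi1 : i ≠ 1)
    (hi2 : i * i = 1) (hj : j ∈ (T : Subgroup G)) (hj1 : j ≠ 1) (hj2 : j * j = 1) :
    ∃ s, s * s = 1 ∧ s * i * s = g * j * g⁻¹ ∧ g⁻¹ * s ∈ NT := by
  have hj' : g * j * g⁻¹ ∉ (T : Subgroup G) := fun h => hj1 (H.ti g hg j hj h)
  have hj2' : g * j * g⁻¹ * (g * j * g⁻¹) = 1 := by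
    calc g * j * g⁻¹ * (g * j * g⁻¹) = g * (j * j) * g⁻¹ := by group
      _ = 1 := by rw [hj2]; group
  obtain ⟨s, hs, hsi⟩ := exists_swap_of_odd hi2 hj2' (H.odd_mul hi hi1 hi2 hj' hj2')
  refine ⟨s, hs, hsi, H.mem_N hi hi1 ?_⟩
  have hs' : s⁻¹ = s := inv_eq_of_mul_eq_one_right hs
  have : g⁻¹ * s * i * (g⁻¹ * s)⁻¹ = j := by
    calc g⁻¹ * s * i * (g⁻¹ * s)⁻¹ = g⁻¹ * (s * i * s⁻¹) * g := by group
      _ = j := by rw [hs', hsi]; group
  rw [this]; exact hj

end TIH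

/-- two-point stabiliser -/
def KK (T : Subgroup G) (s : G) : Subgroup G where
  carrier := {x | x ∈ normalizer (T : Set G) ∧ s⁻¹ * x * s ∈ normalizer (T : Set G)}
  one_mem' := ⟨one_mem _, by simp⟩
  mul_mem' := by
    rintro a b ⟨h1, h2⟩ ⟨h3, h4⟩
    refine ⟨mul_mem h1 h3, ?_⟩
    have := mul_mem h2 h4
    simpa [mul_assoc] using this
  inv_mem' := by
    rintro a ⟨h1, h2⟩
    refine ⟨inv_mem h1, ?_⟩
    have := inv_mem h2
    simpa [mul_assoc] using this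

theorem mem_KK {T : Subgroup G} {s x : G} :
    x ∈ KK T s ↔ x ∈ normalizer (T : Set G) ∧ s⁻¹ * x * s ∈ normalizer (T : Set G) := Iff.rfl

namespace TIH

variable [Finite G] {T : Sylow 2 G} (H : TIH T)

local notation "NT" => normalizer ((T : Subgroup G) : Set G)

include H

omit [Finite G] in
theorem eq_one_of_pow {g x : G} (hg : g ∉ NT) (hx : x ∈ KK (T : Subgroup G) g) {j : ℕ}
    (h : x ^ 2 ^ j = 1) : x = 1 := by
  have h1 := mem_of_pow hx.1 h
  have h2 : g⁻¹ * x * g ∈ (T : Subgroup G) := mem_of_pow hx.2 (j := j) (by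
    have : (g⁻¹ * x * g⁻¹⁻¹) ^ 2 ^ j = 1 := by rw [conj_pow, h]; group
    simpa using this)
  exact H.ti g⁻¹ (fun h' => hg (by simpa using inv_mem h')) x h1 (by simpa using h2)

omit [Finite G] in
theorem eq_one_of_mem {g x : G} (hg : g ∉ NT) (hx : x ∈ KK (T : Subgroup G) g)
    (h : x ∈ (T : Subgroup G)) : x = 1 := by
  obtain ⟨j, hj⟩ := pow_of_mem T.isPGroup' h
  exact H.eq_one_of_pow hg hx hj

theorem inverts {s x : G} (hs : s ∉ NT) (hs2 : s * s = 1) (hx : x ∈ KK (T : Subgroup G) s) :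
    s * x * s = x⁻¹ := by
  classical
  have := Fintype.ofFinite G
  have hs' : s⁻¹ = s := inv_eq_of_mul_eq_one_right hs2
  have hs1 : s ≠ 1 := fun h => hs (h ▸ one_mem _)
  refine J3T.fpf_inverts (D := KK (T : Subgroup G) s) (J3T.odd_card_of_no_inv ?_)
    (J3T.mem_Inv.2 ⟨hs2, hs1⟩) ?_ ?_ x hx
  · intro y hy hyK
    rw [J3T.mem_Inv] at hy
    exact hy.2 (H.eq_one_of_pow hs hyK (j := 1) (by rw [pow_one, pow_two, hy.1]))
  · intro d hd
    refine ⟨by have := hd.2; rwa [hs'] at this, ?_⟩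
    have : s⁻¹ * (s * d * s) * s = d := by
      rw [← mul_assoc, ← mul_assoc, inv_mul_cancel, one_mul, mul_assoc, hs2, mul_one]
    rw [this]; exact hd.1
  · rw [eq_bot_iff]
    rintro y ⟨hy, hc⟩
    have hc' : y * s = s * y := J3T.mem_Cz.1 hc
    obtain ⟨l, hl⟩ := H.ep.comm Nat.prime_two hc'.symm hs1 (k := 1) (by rw [pow_one, pow_two, hs2])
    exact H.eq_one_of_pow hs hy hl

theorem exists_conj {s i j : G} (hs : s ∉ NT) (hs2 : s * s = 1) (hi : i ∈ (T : Subgroup G))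
    (hi1 : i ≠ 1) (hi2 : i * i = 1) (hj : j ∈ (T : Subgroup G)) (hj1 : j ≠ 1) (hj2 : j * j = 1) :
    ∃ κ ∈ KK (T : Subgroup G) s, κ * i * κ⁻¹ = j := by
  have hs' : s⁻¹ = s := inv_eq_of_mul_eq_one_right hs2
  obtain ⟨s', h1, h2, h3⟩ := H.exists_swap hs hi hi1 hi2 hj hj1 hj2
  have h1' : s'⁻¹ = s' := inv_eq_of_mul_eq_one_right h1
  refine ⟨s⁻¹ * s', ⟨h3, ?_⟩, ?_⟩
  · have : s⁻¹ * (s⁻¹ * s') * s = (s⁻¹ * s')⁻¹ := by
      rw [mul_inv_rev, inv_inv, h1', hs', ← mul_assoc, hs2, one_mul]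
    rw [this]; exact inv_mem h3
  · calc s⁻¹ * s' * i * (s⁻¹ * s')⁻¹ = s⁻¹ * (s' * i * s'⁻¹) * s := by group
      _ = j := by rw [h1', h2]; group

omit H in
theorem exists_central {i : G} (hi : i ∈ (T : Subgroup G)) (hi1 : i ≠ 1) :
    ∃ z ∈ (T : Subgroup G), z ≠ 1 ∧ z * z = 1 ∧ ∀ u ∈ (T : Subgroup G), z * u = u * z := by
  have : Nontrivial (T : Subgroup G) := ⟨⟨⟨i, hi⟩, 1, fun h => hi1 (congrArg Subtype.val h)⟩⟩
  have hc := T.isPGroup'.center_nontrivial
  obtain ⟨c, hc1⟩ := exists_ne (1 : center (T : Subgroup G))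
  have hp : IsPGroup 2 (center (T : Subgroup G)) := T.isPGroup'.to_subgroup _
  obtain ⟨m, hm⟩ := hp.exists_card_eq
  have hm0 : m ≠ 0 := by
    rintro rfl
    have := Finite.one_lt_card (α := center (T : Subgroup G))
    omega
  obtain ⟨z, hz⟩ := exists_prime_orderOf_dvd_card' (G := center (T : Subgroup G)) 2
    (by rw [hm]; exact dvd_pow_self 2 hm0)
  refine ⟨z.1.1, z.1.2, ?_, ?_, ?_⟩
  · intro h
    have : z = 1 := Subtype.ext (Subtype.ext h)
    rw [this] at hz; simp at hz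
  · have := pow_orderOf_eq_one z
    rw [hz, pow_two] at this
    exact congrArg (fun x => x.1.1) this
  · intro u hu
    have := (mem_center_iff.1 z.2 ⟨u, hu⟩)
    exact (congrArg Subtype.val this).symm

theorem inv_cent {s : G} (hs : s ∉ NT) (hs2 : s * s = 1) {t : G} (ht : t ∈ (T : Subgroup G))
    (ht2 : t * t = 1) {u : G} (hu : u ∈ (T : Subgroup G)) : t * u = u * t := by
  by_cases ht1 : t = 1
  · simp [ht1]
  obtain ⟨z, hz, hz1, hz2, hzc⟩ := exists_central ht ht1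
  obtain ⟨κ, hκ, e⟩ := H.exists_conj hs hs2 hz hz1 hz2 ht ht1 ht2
  have := hzc _ (nm_cj' hκ.1 hu)
  rw [← e]
  calc κ * z * κ⁻¹ * u = κ * (z * (κ⁻¹ * u * κ)) * κ⁻¹ := by group
    _ = u * (κ * z * κ⁻¹) := by rw [this]; group

theorem norm_eq {s i : G} (hs : s ∉ NT) (hs2 : s * s = 1) (hi : i ∈ (T : Subgroup G))
    (hi1 : i ≠ 1) (hi2 : i * i = 1) {y : G} (hy : y ∈ NT) :
    ∃ t ∈ (T : Subgroup G), ∃ κ ∈ KK (T : Subgroup G) s, y = t * κ := by
  obtain ⟨κ, hκ, e⟩ := H.exists_conj hs hs2 hi hi1 hi2 (nm_cj hy hi)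
    (fun h => hi1 (by simpa using h)) (by
      calc y * i * y⁻¹ * (y * i * y⁻¹) = y * (i * i) * y⁻¹ := by group
        _ = 1 := by rw [hi2]; group)
  have : κ⁻¹ * y ∈ (T : Subgroup G) := H.cent hi hi1 (by
    calc κ⁻¹ * y * i = κ⁻¹ * (y * i * y⁻¹) * y := by group
      _ = i * (κ⁻¹ * y) := by rw [← e]; group)
  exact ⟨κ * (κ⁻¹ * y) * κ⁻¹, nm_cj hκ.1 this, κ, hκ, by group⟩

theorem card_K {s i : G} (hs : s ∉ NT) (hs2 : s * s = 1) (hi : i ∈ (T : Subgroup G))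
    (hi1 : i ≠ 1) (hi2 : i * i = 1) :
    Nat.card (KK (T : Subgroup G) s) + 1 = Nat.card {t : (T : Subgroup G) // t * t = 1} := by
  let f : Option (KK (T : Subgroup G) s) → {t : (T : Subgroup G) // t * t = 1} := fun o =>
    match o with
    | none => ⟨1, by simp⟩
    | some κ => ⟨⟨κ * i * κ⁻¹, nm_cj κ.2.1 hi⟩, Subtype.ext (by
        change (κ : G) * i * κ⁻¹ * (κ * i * κ⁻¹) = 1
        calc (κ : G) * i * (κ : G)⁻¹ * (κ * i * (κ : G)⁻¹) = κ * (i * i) * (κ : G)⁻¹ := by group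
          _ = 1 := by rw [hi2]; group)⟩
  have hf : Function.Bijective f := by
    constructor
    · rintro (_ | a) (_ | b) e
      · rfl
      · have : (1 : G) = b * i * (b : G)⁻¹ := congrArg (fun x => x.1.1) e
        exact absurd (by simpa using this.symm) hi1
      · have : a * i * (a : G)⁻¹ = (1 : G) := congrArg (fun x => x.1.1) e
        exact absurd (by simpa using this) hi1
      · have e' : a * i * (a : G)⁻¹ = b * i * (b : G)⁻¹ := congrArg (fun x => x.1.1) e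
        have h1 : (b : G)⁻¹ * a ∈ (T : Subgroup G) := H.cent hi hi1 (by
          calc (b : G)⁻¹ * a * i = (b : G)⁻¹ * (a * i * (a : G)⁻¹) * a := by group
            _ = i * ((b : G)⁻¹ * a) := by rw [e']; group)
        have h2 := H.eq_one_of_mem hs (mul_mem (inv_mem b.2) a.2) h1
        congr 1
        exact Subtype.ext (inv_mul_eq_one.1 h2).symm
    · rintro ⟨⟨t, ht⟩, ht2⟩
      by_cases ht1 : t = 1
      · exact ⟨none, Subtype.ext (Subtype.ext ht1.symm)⟩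
      · obtain ⟨κ, hκ, e⟩ := H.exists_conj hs hs2 hi hi1 hi2 ht ht1 (congrArg Subtype.val ht2)
        exact ⟨some ⟨κ, hκ⟩, Subtype.ext (Subtype.ext e)⟩
  rw [← Nat.card_eq_of_bijective f hf, Finite.card_option]

theorem card_inv {s : G} (hs : s ∉ NT) (hs2 : s * s = 1) :
    ∃ n, Nat.card {t : (T : Subgroup G) // t * t = 1} = 2 ^ n := by
  let Om : Subgroup (T : Subgroup G) :=
    { carrier := {t | t * t = 1}
      one_mem' := by simp
      mul_mem' := by
        intro a b ha hb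
        have hc : b * a = a * b :=
          Subtype.ext (H.inv_cent hs hs2 b.2 (congrArg Subtype.val hb) a.2)
        change a * b * (a * b) = 1
        have ha' : a * a = 1 := ha
        have hb' : b * b = 1 := hb
        calc a * b * (a * b) = a * (b * a) * b := by group
          _ = (a * a) * (b * b) := by rw [hc]; group
          _ = 1 := by rw [ha', hb', one_mul]
      inv_mem' := by
        intro a ha
        have ha' : a * a = 1 := ha
        change a⁻¹ * a⁻¹ = 1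
        rw [← mul_inv_rev, ha', inv_one] }
  exact (T.isPGroup'.to_subgroup Om).exists_card_eq

/-- an element of `K` other than `1` fixes only two points -/
theorem not_mem_cent {s k c : G} (hs : s ∉ NT) (hs2 : s * s = 1) (hk : k ∈ KK (T : Subgroup G) s)
    (hk1 : k ≠ 1) (hc : c * k = k * c) : c⁻¹ * s ∉ NT := by
  classical
  have := Fintype.ofFinite G
  intro hcs
  have hs' : s⁻¹ = s := inv_eq_of_mul_eq_one_right hs2
  have hs1 : s ≠ 1 := fun h => hs (h ▸ one_mem _)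
  have hki := H.inverts hs hs2 hk
  have two : ∀ y, y * k = k * y → ∀ j : ℕ, y ^ 2 ^ j = 1 → y = 1 := by
    intro y hy j hj
    by_contra hy1
    obtain ⟨l, hl⟩ := H.ep.comm Nat.prime_two hy hy1 hj
    exact hk1 (H.eq_one_of_pow hs hk hl)
  have hodd : Odd (Nat.card (J3T.Cz k)) := J3T.odd_card_of_no_inv (fun y hy hyk => by
    rw [J3T.mem_Inv] at hy
    exact hy.2 (two y (J3T.mem_Cz.1 hyk) 1 (by rw [pow_one, pow_two, hy.1])))
  have hinv : ∀ d ∈ J3T.Cz k, s * d * s = d⁻¹ := J3T.fpf_inverts hodd (J3T.mem_Inv.2 ⟨hs2, hs1⟩)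
    (fun d hd => J3T.norm_Cz_of_inverts hs2 hki hd) (by
      rw [eq_bot_iff]
      rintro y ⟨hy, hy'⟩
      obtain ⟨l, hl⟩ := H.ep.comm Nat.prime_two (J3T.mem_Cz.1 hy').symm hs1 (k := 1)
        (by rw [pow_one, pow_two, hs2])
      exact two y (J3T.mem_Cz.1 hy) l hl)
  have hcC : c ∈ J3T.Cz k := J3T.mem_Cz.2 hc
  obtain ⟨m, hm⟩ := J3T.odd_order_of_mem hodd hcC
  set d := c ^ (m + 1) with hd
  have hdd : d * d = c := by
    rw [hd, ← pow_add, show m + 1 + (m + 1) = 2 * m + 1 + 1 by ring, ← hm, pow_succ,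
      pow_orderOf_eq_one, one_mul]
  have hdC : d ∈ J3T.Cz k := pow_mem hcC _
  have e1 : d⁻¹ * s * d = c⁻¹ * s := by
    have := hinv d hdC
    calc d⁻¹ * s * d = d⁻¹ * (s * d * s) * s⁻¹ := by group
      _ = c⁻¹ * s := by rw [this, hs', ← hdd]; group
  have e2 : d⁻¹ * s * d * (d⁻¹ * s * d) = 1 := by
    calc d⁻¹ * s * d * (d⁻¹ * s * d) = d⁻¹ * (s * s) * d := by group
      _ = 1 := by rw [hs2]; group
  have ht : d⁻¹ * s * d ∈ (T : Subgroup G) := mem_of_sq (e1 ▸ hcs) e2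
  have hdk : d * k = k * d := J3T.mem_Cz.1 hdC
  have e3 : (k⁻¹ * (d⁻¹ * s * d) * k) * (d⁻¹ * s * d) = (k * k)⁻¹ := by
    have a1 : d * k * d⁻¹ = k := by rw [hdk]; group
    have a2 : d⁻¹ * k⁻¹ * d = k⁻¹ := by
      calc d⁻¹ * k⁻¹ * d = d⁻¹ * (d * k * d⁻¹)⁻¹ * d := by rw [a1]
        _ = k⁻¹ := by group
    calc (k⁻¹ * (d⁻¹ * s * d) * k) * (d⁻¹ * s * d)
        = k⁻¹ * (d⁻¹ * (s * (d * k * d⁻¹) * s) * d) := by group
      _ = (k * k)⁻¹ := by rw [a1, hki, a2]; group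
  have h4 : (k * k)⁻¹ ∈ (T : Subgroup G) := e3 ▸ mul_mem (nm_cj' hk.1 ht) ht
  have h5 := H.eq_one_of_mem hs (inv_mem (mul_mem hk hk)) h4
  exact hk1 (H.eq_one_of_pow hs hk (j := 1) (by rw [pow_one, pow_two]; exact inv_eq_one.1 h5))

theorem fix_two {s k g i : G} (hs : s ∉ NT) (hs2 : s * s = 1) (hi : i ∈ (T : Subgroup G))
    (hi1 : i ≠ 1) (hi2 : i * i = 1) (hk : k ∈ KK (T : Subgroup G) s)
    (hk1 : k ≠ 1) (hg : g⁻¹ * k * g ∈ NT) : g ∈ NT ∨ s * g ∈ NT := by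
  by_contra hcon
  rw [not_or] at hcon
  obtain ⟨h1, h2⟩ := hcon
  have hs' : s⁻¹ = s := inv_eq_of_mul_eq_one_right hs2
  have hki := H.inverts hs hs2 hk
  obtain ⟨s1, a1, -, a3⟩ := H.exists_swap h1 hi hi1 hi2 hi hi1 hi2
  obtain ⟨s2, b1, -, b3⟩ := H.exists_swap h2 hi hi1 hi2 hi hi1 hi2
  have n1 : s1 ∉ NT := fun h => h1 (by simpa using inv_mem (mul_mem a3 (inv_mem h)))
  have n2 : s2 ∉ NT := fun h => h2 (by simpa [mul_assoc] using inv_mem (mul_mem b3 (inv_mem h)))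
  have k1 : k ∈ KK (T : Subgroup G) s1 := ⟨hk.1, by
    have := mul_mem (mul_mem (inv_mem a3) hg) a3
    simpa [mul_assoc] using this⟩
  have k2 : k⁻¹ ∈ KK (T : Subgroup G) s2 := ⟨inv_mem hk.1, by
    have := mul_mem (mul_mem (inv_mem b3) hg) b3
    have e : ((s * g)⁻¹ * s2)⁻¹ * (g⁻¹ * k * g) * ((s * g)⁻¹ * s2) = s2⁻¹ * (s * k * s⁻¹) * s2 := by
      group
    rwa [e, hs', hki] at this⟩
  have i1 := H.inverts n1 a1 k1
  have flip : ∀ x : G, x * x = 1 → x * k⁻¹ * x = k⁻¹⁻¹ → x * k * x = k⁻¹ := fun x hx h => by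
    have hx' : x⁻¹ = x := inv_eq_of_mul_eq_one_right hx
    have := congrArg (·⁻¹) h
    simp only [mul_inv_rev, inv_inv, hx'] at this
    rw [← this]; group
  have i2 : s2 * k * s2 = k⁻¹ := flip s2 b1 (H.inverts n2 b1 k2)
  have cm : ∀ x : G, x * x = 1 → x * k * x = k⁻¹ → (x * s) * k = k * (x * s) := fun x hx h => by
    have hx' : x⁻¹ = x := inv_eq_of_mul_eq_one_right hx
    have h' : x * k⁻¹ * x = k := by
      have := congrArg (·⁻¹) h
      simp only [mul_inv_rev, inv_inv, hx'] at this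
      rw [← mul_assoc] at this
      exact this
    calc x * s * k = x * (s * k * s) * s⁻¹ := by group
      _ = (x * k⁻¹ * x) * (x⁻¹ * s⁻¹) := by rw [hki]; group
      _ = k * (x * s) := by rw [h', hx', hs']
  have c1 := cm s1 a1 i1
  have c2 := cm s2 b1 i2
  have hc : ((s1 * s) * (s2 * s))⁻¹ * k = k * ((s1 * s) * (s2 * s))⁻¹ :=
    ((Commute.mul_left c1 c2).inv_left).eq
  refine H.not_mem_cent hs hs2 hk hk1 hc ?_
  have a1' : s1⁻¹ = s1 := inv_eq_of_mul_eq_one_right a1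
  have := mul_mem (inv_mem a3) b3
  have e : (g⁻¹ * s1)⁻¹ * ((s * g)⁻¹ * s2) = s1⁻¹ * s⁻¹ * s2 := by group
  rw [e, a1', hs'] at this
  have e2 : ((s1 * s) * (s2 * s))⁻¹⁻¹ * s = s1 * s * s2 * (s * s) := by group
  rwa [e2, hs2, mul_one]

theorem cent_K {s k g i : G} (hs : s ∉ NT) (hs2 : s * s = 1) (hi : i ∈ (T : Subgroup G))
    (hi1 : i ≠ 1) (hi2 : i * i = 1) (hk : k ∈ KK (T : Subgroup G) s)
    (hk1 : k ≠ 1) (hg : g * k = k * g) : g ∈ KK (T : Subgroup G) s := by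
  have hs' : s⁻¹ = s := inv_eq_of_mul_eq_one_right hs2
  have key : ∀ x, x * k = k * x → x ∈ NT := fun x hx => by
    rcases H.fix_two hs hs2 hi hi1 hi2 hk hk1 (g := x) (by
      rw [mul_assoc, ← hx, inv_mul_cancel_left]; exact hk.1) with h | h
    · exact h
    · exact absurd (by simpa [hs'] using inv_mem h) (H.not_mem_cent hs hs2 hk hk1 hx)
  refine ⟨key g hg, key _ ?_⟩
  have hki := H.inverts hs hs2 hk
  have e : k = s⁻¹ * k⁻¹ * s := by rw [← hki, hs', ← mul_assoc, ← mul_assoc, hs2, one_mul,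
    mul_assoc, hs2, mul_one]
  have hg' : g * k⁻¹ = k⁻¹ * g := (Commute.inv_right hg).eq
  calc s⁻¹ * g * s * k = s⁻¹ * g * s * (s⁻¹ * k⁻¹ * s) := by rw [← e]
    _ = s⁻¹ * (g * k⁻¹) * s := by group
    _ = (s⁻¹ * k⁻¹ * s) * (s⁻¹ * g * s) := by rw [hg']; group
    _ = k * (s⁻¹ * g * s) := by rw [← e]

end TIH

theorem exists_zas [Finite G] (h : EPO.EP G) (T : Sylow 2 G)
    (hTI : ∀ g : G, g ∉ normalizer ((T : Subgroup G) : Set G) → ∀ x ∈ (T : Subgroup G),
      g * x * g⁻¹ ∈ (T : Subgroup G) → x = 1)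
    (hn : ¬ (T : Subgroup G).Normal) {a b : G} (ha : a ∈ (T : Subgroup G))
    (hb : b ∈ (T : Subgroup G)) (ha2 : orderOf a = 2) (hb2 : orderOf b = 2) (hab : a ≠ b) :
    ∃ n k s, Zas G T n k s := by
  classical
  have H : TIH T := ⟨h, hTI⟩
  have ha1 : a ≠ 1 := by rintro rfl; simp at ha2
  have hb1 : b ≠ 1 := by rintro rfl; simp at hb2
  have haa : a * a = 1 := by rw [← pow_two, ← ha2, pow_orderOf_eq_one]
  have hbb : b * b = 1 := by rw [← pow_two, ← hb2, pow_orderOf_eq_one]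
  obtain ⟨g0, hg0⟩ : ∃ g, g ∉ normalizer ((T : Subgroup G) : Set G) := by
    by_contra hc
    push Not at hc
    exact hn (normalizer_eq_top_iff.1 (eq_top_iff.2 fun g _ => hc g))
  obtain ⟨s, hs2, -, hs0⟩ := H.exists_swap hg0 ha ha1 haa ha ha1 haa
  have hs : s ∉ normalizer ((T : Subgroup G) : Set G) :=
    fun h' => hg0 (by simpa using inv_mem (mul_mem hs0 (inv_mem h')))
  have hs' : s⁻¹ = s := inv_eq_of_mul_eq_one_right hs2
  obtain ⟨n, hn2⟩ := H.card_inv hs hs2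
  have hK := H.card_K hs hs2 ha ha1 haa
  rw [hn2] at hK
  obtain ⟨κ, hκ, hκe⟩ := H.exists_conj hs hs2 ha ha1 haa hb hb1 hbb
  have hκ1 : κ ≠ 1 := by rintro rfl; exact hab (by simpa using hκe)
  obtain ⟨p, c, hp, hpc⟩ := h.exists_prime κ
  have hcomm : ∀ x ∈ KK (T : Subgroup G) s, ∀ y ∈ KK (T : Subgroup G) s, x * y = y * x := by
    have := Fintype.ofFinite G
    exact fun x hx y hy => J3T.comm_of_inverts hs2 (fun d hd => H.inverts hs hs2 hd) hx hy
  have hpK : IsPGroup p (KK (T : Subgroup G) s) :=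
    isPGroup_of_pow fun x hx => h.comm hp (hcomm κ hκ x hx) hκ1 hpc
  have := Fact.mk hp
  obtain ⟨e, he⟩ := hpK.exists_card_eq
  have hKnt : 1 < Nat.card (KK (T : Subgroup G) s) :=
    Finite.one_lt_card_iff_nontrivial.2 ⟨⟨⟨κ, hκ⟩, 1, fun h => hκ1 (congrArg Subtype.val h)⟩⟩
  have hn3 : 2 ≤ n := by
    rcases n with _ | _ | n
    · omega
    · omega
    · omega
  have he1 : e = 1 := mersenne_pow hp hn3 (he ▸ hK)
  rw [he1, pow_one] at he
  have hpn : p = 2 ^ n - 1 := by omega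
  have hord : ∀ x ∈ KK (T : Subgroup G) s, x ≠ 1 → orderOf x = p := fun x hx hx1 => by
    have h1 : orderOf (⟨x, hx⟩ : KK (T : Subgroup G) s) ∣ p := he ▸ orderOf_dvd_natCard _
    rw [orderOf_mk] at h1
    exact ((Nat.dvd_prime hp).1 h1).resolve_left (by simpa using hx1)
  have hzp : ∀ x ∈ KK (T : Subgroup G) s, x ≠ 1 → zpowers x = KK (T : Subgroup G) s :=
    fun x hx hx1 => eq_of_le_of_card_ge (by simpa using hx) (by rw [Nat.card_zpowers, hord x hx hx1, he])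
  have hpw : ∀ x ∈ KK (T : Subgroup G) s, ∃ i : ℕ, κ ^ i = x := fun x hx => by
    rw [← hzp κ hκ hκ1] at hx
    exact (mem_powers_iff_mem_zpowers.2 hx)
  have hnorm : ∀ g ∈ normalizer ((T : Subgroup G) : Set G), ∃ t ∈ (T : Subgroup G), ∃ i : ℕ,
      g = t * κ ^ i := fun g hg => by
    obtain ⟨t, ht, x, hx, e⟩ := H.norm_eq hs hs2 ha ha1 haa hg
    obtain ⟨i, rfl⟩ := hpw x hx
    exact ⟨t, ht, i, e⟩
  have hbr : ∀ g, g ∉ normalizer ((T : Subgroup G) : Set G) →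
      ∃ u ∈ (T : Subgroup G), s * u⁻¹ * g ∈ normalizer ((T : Subgroup G) : Set G) := by
    intro g hg
    obtain ⟨s1, a1, -, a3⟩ := H.exists_swap hg ha ha1 haa ha ha1 haa
    have n1 : s1 ∉ normalizer ((T : Subgroup G) : Set G) :=
      fun h => hg (by simpa using inv_mem (mul_mem a3 (inv_mem h)))
    obtain ⟨x, hx, hxe⟩ := H.exists_conj n1 a1 ha ha1 haa hb hb1 hbb
    have hx1 : x ≠ 1 := by rintro rfl; exact hab (by simpa using hxe)
    obtain ⟨t, ht, y, hy, e⟩ := H.norm_eq hs hs2 ha ha1 haa hx.1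
    have hy1 : y ≠ 1 := by
      rintro rfl
      exact hx1 (H.eq_one_of_mem n1 hx (by rw [e, mul_one]; exact ht))
    obtain ⟨u, hu, hue⟩ := lift hy.1 (fun d hd hc => by
      by_contra hd1
      exact hy1 (H.eq_one_of_mem hs hy (H.cent hd hd1 hc.eq))) ht
    refine ⟨u, hu, ?_⟩
    have h3 : (u⁻¹ * g)⁻¹ * y * (u⁻¹ * g) ∈ normalizer ((T : Subgroup G) : Set G) := by
      have e2 : (u⁻¹ * g)⁻¹ * y * (u⁻¹ * g) = (g⁻¹ * s1) * (s1⁻¹ * (u * y * u⁻¹) * s1) * (g⁻¹ * s1)⁻¹ := by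
        group
      rw [e2, hue, ← e]
      exact mul_mem (mul_mem a3 hx.2) (inv_mem a3)
    rcases H.fix_two hs hs2 ha ha1 haa hy hy1 h3 with h4 | h4
    · exact absurd (by simpa using mul_mem (le_normalizer hu) h4) hg
    · rwa [mul_assoc]
  have hcN : Nat.card (normalizer ((T : Subgroup G) : Set G)) =
      Nat.card (T : Subgroup G) * (2 ^ n - 1) := by
    let f : ↥(T : Subgroup G) × KK (T : Subgroup G) s → normalizer ((T : Subgroup G) : Set G) :=
      fun x => ⟨x.1 * x.2, mul_mem (le_normalizer x.1.2) x.2.2.1⟩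
    have hf : Function.Bijective f := by
      constructor
      · rintro ⟨t, x⟩ ⟨t', x'⟩ e
        have e' : (t : G) * x = t' * x' := congrArg Subtype.val e
        have e2 : (x : G) * (x' : G)⁻¹ = (t : G)⁻¹ * t' := by
          calc (x : G) * (x' : G)⁻¹ = (t : G)⁻¹ * (t * x) * (x' : G)⁻¹ := by group
            _ = _ := by rw [e']; group
        have e3 := H.eq_one_of_mem hs (mul_mem x.2 (inv_mem x'.2))
          (e2 ▸ mul_mem (inv_mem t.2) t'.2)
        have e4 : (x : G) = x' := mul_inv_eq_one.1 e3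
        rw [e4] at e'
        exact Prod.ext (Subtype.ext (mul_right_cancel e')) (Subtype.ext e4)
      · rintro ⟨y, hy⟩
        obtain ⟨t, ht, x, hx, e⟩ := H.norm_eq hs hs2 ha ha1 haa hy
        exact ⟨(⟨t, ht⟩, ⟨x, hx⟩), Subtype.ext e.symm⟩
    rw [← Nat.card_eq_of_bijective f hf, Nat.card_prod, he, hpn]
  have hcG : Nat.card G = Nat.card (normalizer ((T : Subgroup G) : Set G)) +
      Nat.card (T : Subgroup G) * Nat.card (normalizer ((T : Subgroup G) : Set G)) := by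
    let f : normalizer ((T : Subgroup G) : Set G) ⊕
        (↥(T : Subgroup G) × normalizer ((T : Subgroup G) : Set G)) → G := fun x =>
      match x with
      | Sum.inl y => y
      | Sum.inr y => y.1 * s * y.2
    have hns : ∀ (u : (T : Subgroup G)) (y : normalizer ((T : Subgroup G) : Set G)),
        (u : G) * s * y ∉ normalizer ((T : Subgroup G) : Set G) := fun u y h' => hs (by
      simpa [mul_assoc] using mul_mem (mul_mem (inv_mem (le_normalizer u.2)) h') (inv_mem y.2))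
    have hf : Function.Bijective f := by
      constructor
      · rintro (y | ⟨u, y⟩) (y' | ⟨u', y'⟩) e
        · exact congrArg _ (Subtype.ext e)
        · have e' : (y : G) = u' * s * y' := e
          exact absurd (e' ▸ y.2) (hns u' y')
        · have e' : (u : G) * s * y = y' := e
          exact absurd (e' ▸ y'.2) (hns u y)
        · have e' : (u : G) * s * y = u' * s * y' := e
          have e2 : s⁻¹ * ((u' : G)⁻¹ * u) * s = y' * (y : G)⁻¹ := by
            calc s⁻¹ * ((u' : G)⁻¹ * u) * s = s⁻¹ * (u' : G)⁻¹ * (u * s * y) * (y : G)⁻¹ := by group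
              _ = _ := by rw [e']; group
          have hm := mul_mem (inv_mem u'.2) u.2
          have e3 := H.eq_one_of_mem hs ⟨le_normalizer hm, e2 ▸ mul_mem y'.2 (inv_mem y.2)⟩ hm
          have e4 : (u' : G) = u := inv_mul_eq_one.1 e3
          rw [e4] at e'
          congr 1
          exact Prod.ext (Subtype.ext e4.symm) (Subtype.ext (mul_left_cancel e'))
      · intro g
        by_cases hg : g ∈ normalizer ((T : Subgroup G) : Set G)
        · exact ⟨Sum.inl ⟨g, hg⟩, rfl⟩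
        · obtain ⟨u, hu, h2⟩ := hbr g hg
          refine ⟨Sum.inr (⟨u, hu⟩, ⟨_, h2⟩), ?_⟩
          change u * s * (s * u⁻¹ * g) = g
          calc u * s * (s * u⁻¹ * g) = u * (s * s) * u⁻¹ * g := by group
            _ = g := by rw [hs2]; group
    rw [← Nat.card_eq_of_bijective f hf, Nat.card_sum, Nat.card_prod]
  refine ⟨n, κ, s, hn3, hpn ▸ hp, T.isPGroup', fun g hg j hj => TIH.mem_of_pow hg hj,
    hpn ▸ hord κ hκ hκ1, hκ.1, hs2, H.inverts hs hs2 hκ, hs, hTI,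
    fun t ht ht1 g hg => H.cent ht ht1 hg, ?_, fun t ht ht2 u hu => H.inv_cent hs hs2 ht ht2 hu,
    hn2, ?_, hnorm, ?_, hcN, by rw [hcG, hcN]; ring⟩
  · intro i hi g hg
    rw [hzp κ hκ hκ1]
    exact H.cent_K hs hs2 ha ha1 haa (pow_mem hκ i) hi hg
  · intro t ht t' ht' h1 h2 h3 h4
    obtain ⟨x, hx, e⟩ := H.exists_conj hs hs2 ht h3 h1 ht' h4 h2
    obtain ⟨i, rfl⟩ := hpw x hx
    exact ⟨i, e⟩
  · intro g hg
    obtain ⟨u, hu, h2⟩ := hbr g hg
    obtain ⟨t, ht, x, hx, e⟩ := H.norm_eq hs hs2 ha ha1 haa h2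
    obtain ⟨i, hi⟩ := hpw x⁻¹ (inv_mem hx)
    refine ⟨u, hu, i, x⁻¹ * t * x, nm_cj' hx.1 ht, ?_⟩
    have hx' := H.inverts hs hs2 hx
    rw [hi]
    calc g = u * (s * s) * u⁻¹ * g := by rw [hs2]; group
      _ = u * s * (s * u⁻¹ * g) := by group
      _ = u * s * x * (s * s) * (x⁻¹ * t * x) := by rw [e, hs2]; group
      _ = u * (s * x * s) * s * (x⁻¹ * t * x) := by group
      _ = _ := by rw [hx']

namespace Zas

variable {T : Subgroup G} {n : ℕ} {k s : G} (Z : Zas G T n k s)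
include Z

theorem s_inv : s⁻¹ = s := inv_eq_of_mul_eq_one_right Z.s_sq

theorem s_pow (i : ℕ) : s * k ^ i * s = (k ^ i)⁻¹ := by
  have := conj_pow (i := i) (a := s) (b := k)
  rw [Z.s_inv, Z.s_k, inv_pow] at this
  exact this.symm

theorem s_pow' (i : ℕ) : s * (k ^ i)⁻¹ * s = k ^ i := by
  rw [← Z.s_pow, ← mul_assoc, ← mul_assoc, Z.s_sq, one_mul, mul_assoc, Z.s_sq, mul_one]

theorem odd_k : Odd (orderOf k) := by
  rw [Z.ord_k]
  have := Z.two_le
  obtain ⟨m, rfl⟩ : ∃ m, n = m + 1 := ⟨n - 1, by omega⟩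
  have : 0 < 2 ^ m := by positivity
  exact ⟨2 ^ m - 1, by rw [pow_succ]; omega⟩

theorem conj_not {x : G} (hx : x ∈ T) (hx1 : x ≠ 1) : s * x * s ∉ normalizer (T : Set G) := by
  intro h
  obtain ⟨j, hj⟩ := pow_of_mem Z.pg hx
  have : s * x * s⁻¹ ∈ T := Z.mem_of_pow _ (by rwa [Z.s_inv]) j (by rw [conj_pow, hj]; group)
  exact hx1 (Z.ti s Z.s_not x hx this)

theorem exists_inv [Finite G] : ∃ z ∈ T, z * z = 1 ∧ z ≠ 1 := by
  have h1 : 1 < Nat.card {t : T // t * t = 1} := by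
    rw [Z.card_inv]; exact Nat.one_lt_two_pow (by have := Z.two_le; omega)
  have := Finite.one_lt_card_iff_nontrivial.1 h1
  obtain ⟨x, hx⟩ := exists_ne (⟨1, by simp⟩ : {t : T // t * t = 1})
  exact ⟨x.1, x.1.2, congrArg Subtype.val x.2, fun h => hx (Subtype.ext (Subtype.ext h))⟩

/-- the structure identity -/
theorem exists_struct [Finite G] : ∃ z ∈ T, ∃ r ∈ T, z * z = 1 ∧ z ≠ 1 ∧ s * z * s = r⁻¹ * s * r := by
  obtain ⟨w, hw, hw2, hw1⟩ := Z.exists_inv
  obtain ⟨u, hu, i, v, hv, e⟩ := Z.bruhat _ (Z.conj_not hw hw1)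
  have hs' := Z.s_inv
  have sq : (v * u * k ^ i * s) * (v * u * k ^ i * s) = 1 := by
    calc (v * u * k ^ i * s) * (v * u * k ^ i * s)
        = v * ((u * k ^ i * s * v) * (u * k ^ i * s * v)) * v⁻¹ := by group
      _ = v * (s * w * (s * s) * w * s) * v⁻¹ := by rw [← e]; group
      _ = 1 := by rw [Z.s_sq, mul_one, mul_assoc s w w, hw2, mul_one, Z.s_sq]; group
  have hvu : v * u = 1 := by
    by_contra hne
    apply Z.conj_not (mul_mem hv hu) hne
    have : s * (v * u) * s = (v * u * k ^ i)⁻¹ * k ^ i := by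
      calc s * (v * u) * s
          = (v * u * k ^ i)⁻¹ * ((v * u * k ^ i * s) * (v * u * k ^ i * s)) * (s⁻¹ * (k ^ i)⁻¹ * s) := by
            group
        _ = _ := by rw [sq, hs', Z.s_pow', mul_one]
    rw [this]
    have hk := pow_mem Z.k_mem i
    exact mul_mem (inv_mem (mul_mem (le_normalizer (mul_mem hv hu)) hk)) hk
  have hu' : u = v⁻¹ := eq_inv_of_mul_eq_one_right hvu
  obtain ⟨m, hm⟩ := Z.odd_k
  -- `c * c = k ^ i`
  set c := k ^ (i * (m + 1)) with hc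
  have hcc : c * c = k ^ i := by
    rw [hc, ← pow_add, show i * (m + 1) + i * (m + 1) = (2 * m + 1) * i + i by ring, ← hm, pow_add,
      pow_mul, pow_orderOf_eq_one, one_pow, one_mul]
  have hcN : c ∈ normalizer (T : Set G) := pow_mem Z.k_mem _
  have hsc : s * c * s = c⁻¹ := Z.s_pow _
  have hsc' : s * c⁻¹ * s = c := Z.s_pow' _
  refine ⟨c * w * c⁻¹, nm_cj hcN hw, c⁻¹ * v * c, nm_cj' hcN hv, ?_, by simpa using hw1, ?_⟩
  · calc c * w * c⁻¹ * (c * w * c⁻¹) = c * (w * w) * c⁻¹ := by group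
      _ = 1 := by rw [hw2]; group
  · calc s * (c * w * c⁻¹) * s = (s * c * s) * (s⁻¹ * w * s⁻¹) * (s * c⁻¹ * s) := by group
      _ = c⁻¹ * (v⁻¹ * (c * c) * s * v) * c := by rw [hsc, hsc', hs', e, hu', hcc]
      _ = c⁻¹ * v⁻¹ * c * (c * s⁻¹) * v * c := by rw [hs']; group
      _ = c⁻¹ * v⁻¹ * c * ((s * c⁻¹ * s) * s⁻¹) * v * c := by rw [hsc']
      _ = _ := by group

theorem eq_one_of_comm {t x : G} (ht : t ∈ T) (hx : x ∉ normalizer (T : Set G))
    (h : x * t = t * x) : t = 1 := by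
  by_contra h1
  exact hx (le_normalizer (Z.cent t ht h1 x h))

theorem struct [Finite G] (h : EP G) (h4 : ∀ t ∈ T, t ^ 4 = 1) :
    ∃ z ∈ T, ∃ r ∈ T, z * z = 1 ∧ z ≠ 1 ∧ s * z * s = r⁻¹ * s * r ∧
      ((r = z ∧ orderOf (z * s) = 3) ∨ (r * r = z ∧ orderOf (z * s) = 5)) := by
  obtain ⟨z, hz, r, hr, hz2, hz1, e⟩ := Z.exists_struct
  refine ⟨z, hz, r, hr, hz2, hz1, e, ?_⟩
  have hz' : z⁻¹ = z := inv_eq_of_mul_eq_one_right hz2
  have hs' := Z.s_inv
  set x := z * s with hx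
  have hxN : x ∉ normalizer (T : Set G) := fun h' => Z.s_not (by
    simpa [hx] using mul_mem (inv_mem (le_normalizer hz)) h')
  have hx1 : x ≠ 1 := fun h' => hxN (h' ▸ one_mem _)
  have hzr := Z.inv_cent z hz hz2 r⁻¹ (inv_mem hr)
  have e1 : r⁻¹ * x * r⁻¹⁻¹ = x ^ 2 := by
    calc r⁻¹ * x * r⁻¹⁻¹ = (r⁻¹ * z) * s * r := by rw [hx]; group
      _ = z * (r⁻¹ * s * r) := by rw [← hzr]; group
      _ = x ^ 2 := by rw [← e, hx, pow_two]; group
  have ep : ∀ j : ℕ, (r ^ j)⁻¹ * x * r ^ j = x ^ 2 ^ j := by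
    intro j
    induction j with
    | zero => simp
    | succ j ih =>
      calc (r ^ (j + 1))⁻¹ * x * r ^ (j + 1) = r⁻¹ * ((r ^ j)⁻¹ * x * r ^ j) * r⁻¹⁻¹ := by group
        _ = _ := by rw [ih, ← conj_pow, e1, ← pow_mul, pow_succ']
  have ez : z⁻¹ * x * z = x⁻¹ := by
    rw [hx, mul_inv_rev, hs', hz', ← mul_assoc, hz2, one_mul]
  have same : ∀ y ∈ T, y⁻¹ * x * y = x⁻¹ → y = z := fun y hy hy' => by
    have := Z.eq_one_of_comm (mul_mem hy (inv_mem hz)) hxN (by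
      calc x * (y * z⁻¹) = y * (y⁻¹ * x * y) * z⁻¹ := by group
        _ = y * z⁻¹ * x := by rw [hy', ← ez, hz']; simp [mul_assoc, hz2, ← mul_assoc z z])
    exact mul_inv_eq_one.1 this
  by_cases hr2 : r * r = 1
  · left
    have h3 : x ^ 3 = 1 := by
      have := ep 2
      rw [pow_two r, hr2, inv_one, one_mul, mul_one] at this
      have h5 : x ^ 3 * x = 1 * x := by rw [← pow_succ, one_mul]; exact this.symm
      exact mul_right_cancel h5
    refine ⟨same r hr ?_, orderOf_eq_prime (hp := ⟨Nat.prime_three⟩) h3 hx1⟩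
    have := ep 1
    rw [pow_one, pow_one] at this
    rw [this]
    exact eq_inv_of_mul_eq_one_left (by rw [← pow_succ]; exact h3)
  · right
    have h15 : x ^ 15 = 1 := by
      have := ep 4
      rw [h4 r hr, inv_one, one_mul, mul_one] at this
      have h5 : x ^ 15 * x = 1 * x := by rw [← pow_succ, one_mul]; exact this.symm
      exact mul_right_cancel h5
    have hd : orderOf x ∣ 15 := orderOf_dvd_of_pow_eq_one h15
    have e2 := ep 2
    have h3 : orderOf x ≠ 3 := fun h3 => hr2 (Z.eq_one_of_comm (mul_mem hr hr) hxN (by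
      have h4' : x ^ 2 ^ 2 = x := by
        rw [show 2 ^ 2 = 3 + 1 by norm_num, pow_succ, ← h3, pow_orderOf_eq_one, one_mul]
      rw [h4', pow_two] at e2
      calc x * (r * r) = r * r * ((r * r)⁻¹ * x * (r * r)) := by group
        _ = _ := by rw [e2]))
    have hpp := h x hx1
    have h5 : orderOf x = 5 := by
      have hle := Nat.le_of_dvd (by norm_num) hd
      have h1 : orderOf x ≠ 1 := by simpa using hx1
      have h15' : orderOf x ≠ 15 := fun h' => by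
        rw [h'] at hpp
        obtain ⟨p, c, hp, -, hc⟩ := (isPrimePow_nat_iff _).1 hpp
        have h3' : 3 ∣ p := Nat.Prime.dvd_of_dvd_pow Nat.prime_three (hc ▸ (by norm_num : 3 ∣ 15))
        have h5' : 5 ∣ p := Nat.Prime.dvd_of_dvd_pow Nat.prime_five (hc ▸ (by norm_num : 5 ∣ 15))
        rw [Nat.prime_dvd_prime_iff_eq Nat.prime_three hp] at h3'
        rw [Nat.prime_dvd_prime_iff_eq Nat.prime_five hp] at h5'
        omega
      generalize orderOf x = o at *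
      interval_cases o <;> omega
    refine ⟨same _ (mul_mem hr hr) ?_, h5⟩
    rw [pow_two] at e2
    rw [e2]
    exact eq_inv_of_mul_eq_one_left (by rw [← pow_succ, ← pow_orderOf_eq_one x, h5]; norm_num)

end Zas

end Cfsg.Agent.EPB
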